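import Groth.Agent.L02.Flat
import Groth.Agent.L22.Cyc.RelDim
import Groth.Agent.L22.Bundle.Immersion
import Mathlib.RingTheory.TensorProduct.MvPolynomial
import Mathlib.RingTheory.KrullDimension.Polynomial
import Mathlib.RingTheory.MvPolynomial.Basic
import Mathlib.Algebra.Category.Ring.Constructions

/-!
# The equation `t * x + c`
-/

set_option autoImplicit false
set_option linter.style.haveILetI false
set_option backward.isDefEq.respectTransparency false

universe u

open CategoryTheory CategoryTheory.Limits AlgebraicGeometry TensorProduct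

noncomputable section

namespace Groth.L16.Deform

variable {A : Type u} [CommRing A] {σ : Type}

/-- A monomial plus a constant is a nonzerodivisor. -/
theorem smul_injective_monomial_add (d : σ →₀ ℕ) (hd : d ≠ 0) (c : A) :
    Function.Injective fun b : MvPolynomial σ A => (MvPolynomial.monomial d 1 + MvPolynomial.C c) * b := by
  classical
  intro b b' h
  rw [← sub_eq_zero]
  replace h : (MvPolynomial.monomial d 1 + MvPolynomial.C c) * (b - b') = 0 := by
    rw [mul_sub]; exact sub_eq_zero.2 h
  generalize b - b' = g at h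
  by_contra hg
  obtain ⟨m, hm, hmax⟩ := Finset.exists_max_image g.support (fun m => m.sum fun _ e => e)
    (MvPolynomial.support_nonempty.2 hg)
  have h1 := congrArg (MvPolynomial.coeff (d + m)) h
  rw [add_mul, MvPolynomial.coeff_add, MvPolynomial.coeff_monomial_mul, one_mul, MvPolynomial.coeff_C_mul,
    MvPolynomial.coeff_zero] at h1
  have h2 : MvPolynomial.coeff (d + m) g = 0 := by
    by_contra h2
    have h3 := hmax _ (MvPolynomial.mem_support_iff.2 h2)
    rw [Finsupp.sum_add_index' (fun _ => rfl) (fun _ _ _ => rfl)] at h3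
    have h4 : (d.sum fun _ e => e) = 0 := by omega
    refine hd (Finsupp.ext fun i => ?_)
    by_contra hi
    exact hi ((Finset.sum_eq_zero_iff.1 h4) i (Finsupp.mem_support_iff.2 hi))
  rw [h2, mul_zero, add_zero] at h1
  exact MvPolynomial.mem_support_iff.1 hm h1

/-- Quotients by a monomial plus a constant are flat. -/
theorem flat_quot_monomial_add [Finite σ] (d : σ →₀ ℕ) (hd : d ≠ 0) (c : A) :
    Module.Flat A (MvPolynomial σ A ⧸ Ideal.span {MvPolynomial.monomial d 1 + MvPolynomial.C c}) := by
  let f : MvPolynomial σ A := MvPolynomial.monomial d 1 + MvPolynomial.C c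
  refine Groth.L02.flat_of_exact_of_rTensor_quotient (LinearMap.mulLeft A f)
    ((Ideal.Quotient.mkₐ A (Ideal.span {f})).toLinearMap) (fun x => ?_) Ideal.Quotient.mk_surjective fun I _ => ?_
  · show Ideal.Quotient.mk (Ideal.span {f}) x = 0 ↔ _
    rw [Ideal.Quotient.eq_zero_iff_mem, Ideal.mem_span_singleton]
    exact ⟨fun ⟨y, hy⟩ => ⟨y, hy.symm⟩, fun ⟨y, hy⟩ => ⟨y, hy.symm⟩⟩
  · let φ := (TensorProduct.comm A (MvPolynomial σ A) (A ⧸ I)).trans
      ((MvPolynomial.algebraTensorAlgEquiv (σ := σ) A (A ⧸ I)).toLinearEquiv.restrictScalars A)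
    have key : ∀ z, φ ((LinearMap.mulLeft A f).rTensor (A ⧸ I) z) =
        (MvPolynomial.monomial d 1 + MvPolynomial.C (Ideal.Quotient.mk I c)) * φ z := fun z => by
      induction z using TensorProduct.induction_on with
      | zero => simp
      | tmul b a =>
        have hf : (MvPolynomial.monomial d 1 + MvPolynomial.C (Ideal.Quotient.mk I c)) =
            MvPolynomial.map (Ideal.Quotient.mk I) f := by simp [f]
        rw [hf]
        simp [φ, MvPolynomial.algebraTensorAlgEquiv_tmul, Ideal.Quotient.algebraMap_eq, map_mul]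
      | add x y hx hy => rw [map_add, map_add, hx, hy, map_add, mul_add]
    intro z z' h
    refine φ.injective (smul_injective_monomial_add d hd (Ideal.Quotient.mk I c) ?_)
    show _ * φ z = _ * φ z'
    rw [← key, ← key, h]

section RelDim

variable (A)

/-- Affine space over an affine scheme. -/
abbrev affMap (n : ℕ) : Spec (CommRingCat.of (MvPolynomial (Fin n) A)) ⟶ Spec (CommRingCat.of A) :=
  Spec.map (CommRingCat.ofHom (algebraMap A (MvPolynomial (Fin n) A)))

theorem hasRelDim_affMap (n : ℕ) : Cyc.HasRelDim (affMap A n) n := by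
  intro y T hT
  let S := CommRingCat.of A
  let φ : S ⟶ (Spec S).residueField y := Spec.preimage ((Spec S).fromSpecResidueField y)
  letI : Algebra A ((Spec S).residueField y) := φ.hom.toAlgebra
  letI : Field ((Spec S).residueField y) := inferInstance
  letI : Algebra (MvPolynomial (Fin n) A) (MvPolynomial (Fin n) ((Spec S).residueField y)) :=
    MvPolynomial.algebraMvPolynomial
  have sq := CommRingCat.isPushout_of_isPushout A ((Spec S).residueField y) (MvPolynomial (Fin n) A)
    (MvPolynomial (Fin n) ((Spec S).residueField y))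
  have hφ : Spec.map (CommRingCat.ofHom (algebraMap A ((Spec S).residueField y))) = (Spec S).fromSpecResidueField y :=
    Spec.map_preimage _
  have pb := (isPullback_SpecMap_of_isPushout _ _ _ _ sq).flip
  rw [hφ] at pb
  let e : (affMap A n).fiber y ≅ Spec (CommRingCat.of (MvPolynomial (Fin n) ((Spec S).residueField y))) :=
    (pb.isoPullback).symm
  let h := Scheme.homeoOfIso e
  have hdim : topologicalKrullDim ↥((affMap A n).fiber y) = n := by
    rw [IsHomeomorph.topologicalKrullDim_eq _ h.isHomeomorph]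
    show topologicalKrullDim (PrimeSpectrum (MvPolynomial (Fin n) ((Spec S).residueField y))) = _
    rw [PrimeSpectrum.topologicalKrullDim_eq_ringKrullDim, MvPolynomial.ringKrullDim_of_isNoetherianRing,
      ringKrullDim_eq_zero_of_field, zero_add, Nat.card_fin]
  haveI : IrreducibleSpace ↥((affMap A n).fiber y) :=
    h.symm.surjective.irreducibleSpace h.symm.continuous
  rw [irreducibleComponents_eq_singleton, Set.mem_singleton_iff] at hT
  rw [hT, IsHomeomorph.topologicalKrullDim_eq _ (Homeomorph.Set.univ _).isHomeomorph, hdim]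

end RelDim

/-- The equation. -/
abbrev eqn (c : A) : MvPolynomial (Fin 2) A :=
  MvPolynomial.monomial (Finsupp.single 0 1 + Finsupp.single 1 1) 1 + MvPolynomial.C c

theorem eqn_eq (c : A) : eqn c = MvPolynomial.X 0 * MvPolynomial.X 1 + MvPolynomial.C c := by
  rw [MvPolynomial.X, MvPolynomial.X, MvPolynomial.monomial_mul, one_mul]

theorem exp_ne_zero : (Finsupp.single (0 : Fin 2) 1 + Finsupp.single 1 1) ≠ 0 := fun h => by
  simpa using DFunLike.congr_fun h 0

/-- The structure morphism of the hypersurface `t * x + c = 0`. -/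
abbrev hypMap (c : A) : Spec (CommRingCat.of (MvPolynomial (Fin 2) A ⧸ Ideal.span {eqn c})) ⟶ Spec (CommRingCat.of A) :=
  Spec.map (CommRingCat.ofHom (algebraMap A (MvPolynomial (Fin 2) A ⧸ Ideal.span {eqn c})))

/-- One coordinate on the hypersurface. -/
abbrev coordHom (c : A) (i : Fin 2) :
    MvPolynomial (Fin 1) A →ₐ[A] MvPolynomial (Fin 2) A ⧸ Ideal.span {eqn c} :=
  MvPolynomial.aeval fun _ => Ideal.Quotient.mk (Ideal.span {eqn c}) (MvPolynomial.X i)

abbrev coord (c : A) (i : Fin 2) : MvPolynomial (Fin 2) A ⧸ Ideal.span {eqn c} :=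
  Ideal.Quotient.mk (Ideal.span {eqn c}) (MvPolynomial.X i)

theorem coord_mul (c : A) : coord c 0 * coord c 1 = - algebraMap A _ c := by
  rw [eq_neg_iff_add_eq_zero, ← map_mul]
  show Ideal.Quotient.mk (Ideal.span {eqn c}) _ + Ideal.Quotient.mk (Ideal.span {eqn c}) (MvPolynomial.C c) = 0
  rw [← map_add, Ideal.Quotient.eq_zero_iff_mem, ← eqn_eq]
  exact Ideal.mem_span_singleton_self _

/-- Two localisations agree if the inclusion of rings has a partial inverse. -/
theorem isLocalization_away_of_inverse {R Q K L : Type u} [CommRing R] [CommRing Q] [CommRing K] [CommRing L]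
    [Algebra R K] [Algebra Q L] (x : R) (u : Q) [IsLocalization.Away x K] [IsLocalization.Away u L]
    (φ : R →+* Q) (hφ : φ x = u) (θ₁ : Q →+* K) (hθ : θ₁.comp φ = algebraMap R K)
    (hψ : ∀ ψ : K →+* L, ψ.comp (algebraMap R K) = (algebraMap Q L).comp φ → ψ.comp θ₁ = algebraMap Q L) :
    letI := ((algebraMap Q L).comp φ).toAlgebra
    IsLocalization.Away x L := by
  have hu : IsUnit (θ₁ u) := by
    rw [← hφ, ← RingHom.comp_apply, hθ]
    exact IsLocalization.Away.algebraMap_isUnit x
  have hu' : IsUnit (((algebraMap Q L).comp φ) x) := by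
    rw [RingHom.comp_apply, hφ]
    exact IsLocalization.Away.algebraMap_isUnit u
  let θ : L →+* K := IsLocalization.Away.lift u hu
  let ψ : K →+* L := IsLocalization.Away.lift x hu'
  have e1 : θ.comp (algebraMap Q L) = θ₁ := IsLocalization.Away.lift_comp u hu
  have e2 : ψ.comp (algebraMap R K) = (algebraMap Q L).comp φ := IsLocalization.Away.lift_comp x hu'
  have h1 : θ.comp ψ = RingHom.id K := IsLocalization.ringHom_ext (Submonoid.powers x) (by
    rw [RingHom.comp_assoc, e2, ← RingHom.comp_assoc, e1, hθ, RingHom.id_comp])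
  have h2 : ψ.comp θ = RingHom.id L := IsLocalization.ringHom_ext (Submonoid.powers u) (by
    rw [RingHom.comp_assoc, e1, hψ ψ e2, RingHom.id_comp])
  letI := ((algebraMap Q L).comp φ).toAlgebra
  let e : K ≃ₐ[R] L :=
    { RingEquiv.ofRingHom ψ θ h2 h1 with commutes' := fun q => RingHom.congr_fun e2 q }
  exact IsLocalization.isLocalization_of_algEquiv (Submonoid.powers x) e

/-- The inverse of the projection to a coordinate, where that coordinate is invertible. -/
theorem exists_inverse (c : A) (i : Fin 2) {K : Type u} [CommRing K] [Algebra A K] (T T' : K) (hT : T * T' = 1) :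
    ∃ θ : MvPolynomial (Fin 2) A ⧸ Ideal.span {eqn c} →ₐ[A] K, θ (coord c i) = T := by
  let v : Fin 2 → K := fun j => if j = i then T else - algebraMap A K c * T'
  have hv : v 0 * v 1 = - algebraMap A K c := by
    fin_cases i
    · simp only [v]
      simp [mul_left_comm T, hT]
    · simp only [v]
      simp [mul_assoc, mul_comm T' T, hT]
  refine ⟨Ideal.Quotient.liftₐ _ (MvPolynomial.aeval v) fun a ha => ?_, ?_⟩
  · obtain ⟨b, rfl⟩ := Ideal.mem_span_singleton.1 ha
    rw [map_mul, eqn_eq, map_add, map_mul, MvPolynomial.aeval_X, MvPolynomial.aeval_X, MvPolynomial.aeval_C, hv,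
      neg_add_cancel, zero_mul]
  · show MvPolynomial.aeval v (MvPolynomial.X i) = T
    rw [MvPolynomial.aeval_X]
    exact if_pos rfl

/-- An algebra map out of the hypersurface is determined by a coordinate with invertible image. -/
theorem algHom_ext_coord (c : A) (i : Fin 2) {B : Type u} [CommRing B] [Algebra A B]
    {f g : MvPolynomial (Fin 2) A ⧸ Ideal.span {eqn c} →ₐ[A] B} (h : f (coord c i) = g (coord c i))
    (hu : IsUnit (f (coord c i))) : f = g := by
  refine Ideal.Quotient.algHom_ext A (MvPolynomial.algHom_ext fun j => ?_)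
  show f (coord c j) = g (coord c j)
  by_cases hj : j = i
  · subst hj; exact h
  have hm : ∀ F : MvPolynomial (Fin 2) A ⧸ Ideal.span {eqn c} →ₐ[A] B,
      F (coord c i) * F (coord c j) = - algebraMap A B c := fun F => by
    rw [← map_mul, ← F.commutes, ← map_neg, ← coord_mul c]
    congr 1
    fin_cases i <;> fin_cases j <;> first | (exact absurd rfl hj) | rfl | exact mul_comm _ _
  refine hu.mul_left_cancel ?_
  rw [hm, h, hm]

/-- Away from the zero locus of a coordinate the hypersurface is the punctured line. -/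
theorem isLocalization_coord (c : A) (i : Fin 2) :
    letI := ((algebraMap _ (Localization.Away (coord c i))).comp (coordHom c i).toRingHom).toAlgebra
    IsLocalization.Away (MvPolynomial.X 0 : MvPolynomial (Fin 1) A) (Localization.Away (coord c i)) := by
  have hφ : coordHom c i (MvPolynomial.X 0) = coord c i := MvPolynomial.aeval_X _ _
  obtain ⟨θ₁, hθ₁⟩ := exists_inverse c i (K := Localization.Away (MvPolynomial.X 0 : MvPolynomial (Fin 1) A)) _ _
    (IsLocalization.Away.mul_invSelf (MvPolynomial.X 0 : MvPolynomial (Fin 1) A))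
  refine isLocalization_away_of_inverse
    (K := Localization.Away (MvPolynomial.X 0 : MvPolynomial (Fin 1) A)) (MvPolynomial.X 0) (coord c i)
    (coordHom c i).toRingHom hφ θ₁.toRingHom
    (MvPolynomial.ringHom_ext (fun a => ?_) fun j => ?_) fun ψ hψ => ?_
  · show θ₁ (coordHom c i (algebraMap A _ a)) = algebraMap _ _ (algebraMap A (MvPolynomial (Fin 1) A) a)
    rw [AlgHom.commutes, AlgHom.commutes, ← IsScalarTower.algebraMap_apply]
  · obtain rfl : j = 0 := Subsingleton.elim _ _
    show θ₁ (coordHom c i (MvPolynomial.X 0)) = _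
    rw [hφ, hθ₁]
  · let ψA : Localization.Away (MvPolynomial.X 0 : MvPolynomial (Fin 1) A) →ₐ[A] Localization.Away (coord c i) :=
      AlgHom.mk ψ fun a => by
        show ψ (algebraMap A _ a) = _
        rw [IsScalarTower.algebraMap_apply A (MvPolynomial (Fin 1) A), ← RingHom.comp_apply, hψ]
        show algebraMap (MvPolynomial (Fin 2) A ⧸ Ideal.span {eqn c}) (Localization.Away (coord c i))
          (coordHom c i (algebraMap A _ a)) = _
        rw [AlgHom.commutes, ← IsScalarTower.algebraMap_apply]
    have key : ψA.comp θ₁ = IsScalarTower.toAlgHom A _ (Localization.Away (coord c i)) := by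
      have h : (ψA.comp θ₁) (coord c i) = algebraMap _ (Localization.Away (coord c i)) (coord c i) := by
        show ψ (θ₁ (coord c i)) = _
        rw [hθ₁, ← RingHom.comp_apply, hψ]
        exact congrArg (algebraMap (MvPolynomial (Fin 2) A ⧸ Ideal.span {eqn c}) (Localization.Away (coord c i))) hφ
      exact algHom_ext_coord c i h (h ▸ IsLocalization.Away.algebraMap_isUnit (coord c i))
    exact congrArg AlgHom.toRingHom key

open Groth.L22.Cyc in
theorem hasRelDim_hypMap (c : A) : Cyc.HasRelDim (hypMap c) 1 := by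
  let Q := MvPolynomial (Fin 2) A ⧸ Ideal.span {eqn c}
  haveI : Algebra.FiniteType A Q :=
    Algebra.FiniteType.of_surjective (Ideal.Quotient.mkₐ A _) Ideal.Quotient.mk_surjective
  haveI : LocallyOfFiniteType (hypMap c) := (HasRingHomProperty.Spec_iff (P := @LocallyOfFiniteType)).2
    (RingHom.finiteType_algebraMap.2 inferInstance)
  refine hasRelDim_of_rtrdeg _ fun ξ hξ => ?_
  have hcase : coord c 0 ∉ ξ.asIdeal ∨ coord c 1 ∉ ξ.asIdeal := by
    by_contra hcon
    simp only [not_or, not_not] at hcon
    have hc : c ∈ ξ.asIdeal.comap (algebraMap A Q) := by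
      rw [Ideal.mem_comap, ← Ideal.neg_mem_iff, ← coord_mul]
      exact Ideal.mul_mem_left _ _ hcon.2
    let q : Ideal A := ξ.asIdeal.comap (algebraMap A Q)
    haveI : q.IsPrime := Ideal.IsPrime.comap _
    -- the axis `t = 0` over the same point
    let χ₀ : MvPolynomial (Fin 2) A →ₐ[A] MvPolynomial (Fin 1) (A ⧸ q) :=
      MvPolynomial.aeval fun j => if j = 0 then 0 else MvPolynomial.X 0
    have hc0 : algebraMap A (MvPolynomial (Fin 1) (A ⧸ q)) c = 0 := by
      rw [IsScalarTower.algebraMap_apply A (A ⧸ q) _, Ideal.Quotient.algebraMap_eq,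
        Ideal.Quotient.eq_zero_iff_mem.2 hc, map_zero]
    let χ : Q →ₐ[A] MvPolynomial (Fin 1) (A ⧸ q) := Ideal.Quotient.liftₐ _ χ₀ fun a ha => by
      obtain ⟨b, rfl⟩ := Ideal.mem_span_singleton.1 ha
      rw [map_mul, eqn_eq, map_add, map_mul, MvPolynomial.aeval_X, MvPolynomial.aeval_X, MvPolynomial.aeval_C]
      simp [hc0]
    let P : PrimeSpectrum Q := ⟨RingHom.ker χ.toRingHom, RingHom.ker_isPrime _⟩
    have hPle : P.asIdeal ≤ ξ.asIdeal := by
      intro a ha
      let Ξ : MvPolynomial (Fin 1) (A ⧸ q) →+* Q ⧸ ξ.asIdeal := MvPolynomial.eval₂Hom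
        (Ideal.quotientMap ξ.asIdeal (algebraMap A Q) le_rfl) fun _ => 0
      have hΞ : Ξ.comp χ.toRingHom = Ideal.Quotient.mk ξ.asIdeal := by
        refine Ideal.Quotient.ringHom_ext (MvPolynomial.ringHom_ext (fun b => ?_) fun j => ?_)
        · show Ξ (χ₀ (algebraMap A _ b)) = _
          rw [AlgHom.commutes, IsScalarTower.algebraMap_apply A (A ⧸ q) _, MvPolynomial.algebraMap_eq,
            MvPolynomial.eval₂Hom_C]
          rfl
        · show Ξ (χ₀ (MvPolynomial.X j)) = Ideal.Quotient.mk ξ.asIdeal (coord c j)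
          rw [MvPolynomial.aeval_X]
          fin_cases j
          · simpa using (Ideal.Quotient.eq_zero_iff_mem.2 hcon.1).symm
          · simpa [Ξ] using (Ideal.Quotient.eq_zero_iff_mem.2 hcon.2).symm
      rw [← Ideal.Quotient.eq_zero_iff_mem, ← hΞ, RingHom.comp_apply, show χ.toRingHom a = 0 from ha, map_zero]
    have hne : coord c 1 ∉ P.asIdeal := fun h => by
      have h' : χ₀ (MvPolynomial.X 1) = 0 := h
      rw [MvPolynomial.aeval_X] at h'
      simp at h'
    have hbase : hypMap c P = hypMap c ξ := PrimeSpectrum.ext (Ideal.ext fun a => by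
      show χ (algebraMap A Q a) = 0 ↔ algebraMap A Q a ∈ ξ.asIdeal
      rw [AlgHom.commutes, IsScalarTower.algebraMap_apply A (A ⧸ q) _, MvPolynomial.algebraMap_eq,
        map_eq_zero_iff _ (MvPolynomial.C_injective _ _), Ideal.Quotient.algebraMap_eq, Ideal.Quotient.eq_zero_iff_mem]
      rfl)
    exact hne (congrArg PrimeSpectrum.asIdeal (hξ P hbase ((PrimeSpectrum.le_iff_specializes _ _).1 hPle)) ▸ hcon.2)
  obtain ⟨i, hi⟩ : ∃ i, coord c i ∉ ξ.asIdeal := hcase.elim (fun h => ⟨0, h⟩) fun h => ⟨1, h⟩
  let L := Localization.Away (coord c i)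
  let j : Spec (CommRingCat.of L) ⟶ Spec (CommRingCat.of Q) := Spec.map (CommRingCat.ofHom (algebraMap Q L))
  haveI : IsOpenImmersion j := IsOpenImmersion.of_isLocalization (coord c i)
  obtain ⟨y, rfl⟩ : ξ ∈ Set.range j := by
    show ξ ∈ Set.range (PrimeSpectrum.comap (algebraMap Q L))
    rw [PrimeSpectrum.localization_away_comap_range L (coord c i)]
    exact hi
  let h : Spec (CommRingCat.of Q) ⟶ Spec (CommRingCat.of (MvPolynomial (Fin 1) A)) :=
    Spec.map (CommRingCat.ofHom (coordHom c i).toRingHom)
  have hh : h ≫ affMap A 1 = hypMap c := by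
    rw [← Spec.map_comp]
    congr 1
    exact CommRingCat.hom_ext (RingHom.ext fun a => (coordHom c i).commutes a)
  haveI : IsOpenImmersion (j ≫ h) := by
    letI := ((algebraMap _ L).comp (coordHom c i).toRingHom).toAlgebra
    haveI := isLocalization_coord c i
    have e : j ≫ h = Spec.map (CommRingCat.ofHom (algebraMap (MvPolynomial (Fin 1) A) L)) := by
      rw [← Spec.map_comp]; rfl
    rw [e]
    exact IsOpenImmersion.of_isLocalization (MvPolynomial.X 0)
  haveI : LocallyOfFiniteType (affMap A 1) := (HasRingHomProperty.Spec_iff (P := @LocallyOfFiniteType)).2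
    (RingHom.finiteType_algebraMap.2 inferInstance)
  have h0 : rtrdeg h (j y) = 0 := by
    have := rtrdeg_comp j h y
    rwa [Groth.L22.Bundle.rtrdeg_eq_zero (j ≫ h), Groth.L22.Bundle.rtrdeg_eq_zero j, add_zero, eq_comm] at this
  have hgen : FibGen (affMap A 1) (h (j y)) := by
    intro v hv hvy
    obtain ⟨w, rfl⟩ : v ∈ Set.range (j ≫ h) :=
      hvy.mem_open (j ≫ h).isOpenEmbedding.isOpen_range ⟨y, rfl⟩
    have hwy : w ⤳ y := (j ≫ h).isOpenEmbedding.isInducing.specializes_iff.1 hvy
    have hw : j w = j y := hξ (j w) (by rw [← hh]; exact hv) (hwy.map j.continuous)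
    show h (j w) = h (j y)
    rw [hw]
  rw [← rtrdeg_congr _ hh, rtrdeg_comp, h0, rtrdeg_eq_of_hasRelDim _ (hasRelDim_affMap A 1) hgen, add_zero,
    Nat.cast_one]

theorem flat_hypMap (c : A) : Flat (hypMap c) :=
  (HasRingHomProperty.Spec_iff (P := @Flat)).2
    (RingHom.flat_algebraMap_iff.2 (flat_quot_monomial_add _ exp_ne_zero c))

end Groth.L16.Deform
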