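import Groth.Agent.L16.Deform.ZeroSch
import Groth.Agent.L16.Deform.Algebra
import Groth.Agent.L19.ProjBdl.Points

/-!
# Hypersurfaces in locally trivial families of affine spaces
-/

set_option autoImplicit false
set_option linter.style.haveILetI false
set_option backward.isDefEq.respectTransparency false
set_option backward.isDefEq.respectTransparency.types false

universe u

open CategoryTheory CategoryTheory.Limits AlgebraicGeometry TopologicalSpace Opposite
open Groth.L18.Frame (rs ro rs_rs rs_smul rs_self IsFrame pull pull_rs pull_smul)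

noncomputable section

namespace Groth.L16.Deform

variable {X P D : Scheme.{u}} (π : P ⟶ X)

/-- A chart of a family of affine spaces: an open of the base over which the family is affine space. -/
structure Chart (n : ℕ) where
  R : CommRingCat.{u}
  v : Spec R ⟶ X
  [open_v : IsOpenImmersion v]
  j : Spec (CommRingCat.of (MvPolynomial (Fin n) R)) ⟶ P
  sq : IsPullback j (affMap R n) π v

attribute [instance] Chart.open_v

theorem exists_preimage_sq {A B C T : Scheme.{u}} {q : T ⟶ A} {q' : T ⟶ B} {g : A ⟶ C} {h : B ⟶ C}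
    (sq : IsPullback q q' g h) (a : A) (b : B) (e : g a = h b) : ∃ t, q t = a ∧ q' t = b := by
  obtain ⟨z, hz1, hz2⟩ := Scheme.Pullback.exists_preimage_pullback a b e
  refine ⟨sq.isoPullback.inv z, ?_, ?_⟩
  · rw [← Scheme.Hom.comp_apply, sq.isoPullback_inv_fst, hz1]
  · rw [← Scheme.Hom.comp_apply, sq.isoPullback_inv_snd, hz2]

variable {π}

theorem Chart.open_j {n : ℕ} (C : Chart π n) : IsOpenImmersion C.j :=
  MorphismProperty.of_isPullback C.sq.flip C.open_v

/-- The equation of a section in a chart. -/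
def Chart.EqIn {n : ℕ} (C : Chart π n) {M : P.Modules} (s : Γ(M, ⊤)) (f : MvPolynomial (Fin n) C.R) : Prop :=
  ∃ e : Γ((Scheme.Modules.pullback C.j).obj M, ⊤), IsFrame ((Scheme.Modules.pullback C.j).obj M) ⊤ e ∧
    pull C.j M ⊤ s = (Scheme.ΓSpecIso (CommRingCat.of (MvPolynomial (Fin n) C.R))).inv f • e

/-- The quotient of a chart by an equation. -/
abbrev quotMap {n : ℕ} {R : Type u} [CommRing R] (f : MvPolynomial (Fin n) R) :
    Spec (CommRingCat.of (MvPolynomial (Fin n) R ⧸ Ideal.span {f})) ⟶ Spec (CommRingCat.of R) :=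
  Spec.map (CommRingCat.ofHom (algebraMap R (MvPolynomial (Fin n) R ⧸ Ideal.span {f})))

/-- In a chart a zero scheme is the quotient by the equation. -/
theorem Chart.exists_sq {n : ℕ} (C : Chart π n) {M : P.Modules} (hM : PicF.IsInvertible M) {s : Γ(M, ⊤)}
    (ι : D ⟶ P) [IsClosedImmersion ι] (hι : Cyc.IsZeroSchemeOf ι M s) {f : MvPolynomial (Fin n) C.R}
    (hf : C.EqIn s f) :
    ∃ q : Spec (CommRingCat.of (MvPolynomial (Fin n) C.R ⧸ Ideal.span {f})) ⟶ D,
      IsPullback q (quotMap f) (ι ≫ π) C.v := by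
  obtain ⟨e, he, hs⟩ := hf
  obtain ⟨q, hq⟩ := exists_chart_zeroScheme ι hM hι C.j he f hs
  exact ⟨q, by
    rw [show quotMap f = Spec.map (CommRingCat.ofHom (Ideal.Quotient.mk (Ideal.span {f}))) ≫ affMap C.R n by
      rw [← Spec.map_comp]; rfl]
    exact hq.flip.paste_vert C.sq⟩

/-- A property local on the target may be checked in charts. -/
theorem of_charts {g : D ⟶ X} {Q : MorphismProperty Scheme.{u}} [IsZariskiLocalAtTarget Q]
    (h : ∀ x : X, ∃ (B T : Scheme.{u}) (v : B ⟶ X) (_ : IsOpenImmersion v) (q : T ⟶ D) (g' : T ⟶ B),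
      x ∈ Set.range v ∧ IsPullback q g' g v ∧ Q g') : Q g := by
  choose B T v hv q g' hx sq hQ using h
  refine IsZariskiLocalAtTarget.of_iSup_eq_top (fun x => (v x).opensRange)
    (eq_top_iff.2 fun x _ => Opens.mem_iSup.2 ⟨x, hx x⟩) fun x => ?_
  haveI := hv x
  let e : (v x).opensRange.toScheme ≅ B x :=
    IsOpenImmersion.isoOfRangeEq (v x).opensRange.ι (v x) (by rw [Scheme.Opens.range_ι]; rfl)
  have he : e.hom ≫ v x = (v x).opensRange.ι := IsOpenImmersion.isoOfRangeEq_hom_fac _ _ _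
  have h2 : IsPullback (q x) (g' x) g (v x) := sq x
  have h3 := (isPullback_morphismRestrict g (v x).opensRange).flip
  have h4 : IsPullback (g ⁻¹ᵁ (v x).opensRange).ι ((g ∣_ (v x).opensRange) ≫ e.hom) g (v x) :=
    h3.of_iso (Iso.refl _) (Iso.refl _) e (Iso.refl _) (by simp) (by simp) (by simp) (by simp [he])
  have h5 : Q ((g ∣_ (v x).opensRange) ≫ e.hom) := by
    rw [← h4.isoIsPullback_hom_snd _ _ h2]
    exact (MorphismProperty.cancel_left_of_respectsIso Q _ _).2 (hQ x)
  exact (MorphismProperty.cancel_right_of_respectsIso Q _ e.hom).1 h5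

/-- Relative dimension may be checked in charts. -/
theorem hasRelDim_of_charts {g : D ⟶ X} [LocallyOfFiniteType g] {r : ℕ}
    (h : ∀ x : X, ∃ (B T : Scheme.{u}) (v : B ⟶ X) (_ : IsOpenImmersion v) (q : T ⟶ D) (g' : T ⟶ B),
      x ∈ Set.range v ∧ IsPullback q g' g v ∧ Cyc.HasRelDim g' r) : Cyc.HasRelDim g r := by
  refine Groth.L22.Cyc.hasRelDim_of_rtrdeg g fun ξ hξ => ?_
  obtain ⟨B, T, v, hv, q, g', hx, sq, hr⟩ := h (g ξ)
  haveI := hv
  haveI : IsOpenImmersion q := MorphismProperty.of_isPullback sq.flip hv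
  haveI : LocallyOfFiniteType g' := MorphismProperty.of_isPullback sq ‹LocallyOfFiniteType g›
  obtain ⟨b, hb⟩ := hx
  obtain ⟨η, rfl, -⟩ := exists_preimage_sq sq ξ b hb.symm
  have hη : Groth.L22.Cyc.FibGen g' η := fun y hy hyη => q.isOpenEmbedding.injective
    (hξ (q y) (by rw [← Scheme.Hom.comp_apply, ← Scheme.Hom.comp_apply, sq.w, Scheme.Hom.comp_apply, hy,
      Scheme.Hom.comp_apply]) (hyη.map q.continuous))
  have h1 := Groth.L22.Cyc.rtrdeg_comp q g η
  rw [Groth.L22.Cyc.rtrdeg_congr _ sq.w, Groth.L22.Cyc.rtrdeg_comp, Groth.L22.Bundle.rtrdeg_eq_zero v,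
    Groth.L22.Bundle.rtrdeg_eq_zero q, Groth.L22.Cyc.rtrdeg_eq_of_hasRelDim g' hr hη, zero_add, add_zero] at h1
  exact h1.symm

/-- A nonzerodivisor equation gives a regular section. -/
theorem injective_germ_of_charts {n : ℕ} {M : P.Modules} (hM : PicF.IsInvertible M) {s : Γ(M, ⊤)}
    (h : ∀ x : X, ∃ (C : Chart π n) (f : MvPolynomial (Fin n) C.R), x ∈ Set.range C.v ∧ C.EqIn s f ∧
      Function.Injective fun b => f * b) (z : P) :
    Function.Injective fun a : P.presheaf.stalk z => a • (M.presheaf.germ ⊤ z trivial) s := by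
  obtain ⟨C, f, ⟨b, hb⟩, ⟨e, he, hs⟩, hreg⟩ := h (π z)
  haveI := C.open_j
  obtain ⟨η, hη, -⟩ := exists_preimage_sq C.sq z b hb.symm
  subst hη
  let R := CommRingCat.of (MvPolynomial (Fin n) C.R)
  have hN := Groth.L18.Ample.isInvertible_pullback C.j hM
  let g := ((Spec R).presheaf.germ ⊤ η trivial).hom ((Scheme.ΓSpecIso R).inv f)
  have hgerm : Groth.L22.C1.pm C.j M η rfl (M.presheaf.germ ⊤ (C.j η) trivial s) =
      g • ((Scheme.Modules.pullback C.j).obj M).presheaf.germ ⊤ η trivial e := by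
    rw [Groth.L22.C1.pm_germ C.j M η rfl (V := ⊤) trivial s, ← Groth.L20.ModStalk.germ_smul]
    exact congrArg _ hs
  intro a a' haa
  have h1 := congrArg (Groth.L22.C1.pm C.j M η rfl) haa
  simp only [Groth.L22.C1.pm_smul, hgerm, smul_smul] at h1
  have h2 := (Groth.L22.C1.isGen_germ he (x := η) trivial).injective hN h1
  have hgreg : IsLeftRegular g := by
    letI : Algebra R ((Spec R).presheaf.stalk η) := StructureSheaf.stalkAlgebra _ η
    haveI : IsLocalization η.asIdeal.primeCompl ((Spec R).presheaf.stalk η) :=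
      inferInstanceAs (IsLocalization.AtPrime ((Spec.structureSheaf R).presheaf.stalk η) η.asIdeal)
    haveI : Module.Flat R ((Spec R).presheaf.stalk η) :=
      IsLocalization.flat _ η.asIdeal.primeCompl
    have hf : IsSMulRegular R f := hreg
    have := hf.of_flat (S := (Spec R).presheaf.stalk η)
    exact this
  have h3 : Groth.L22.Cyc.fibMap C.j η rfl a = Groth.L22.Cyc.fibMap C.j η rfl a' :=
    hgreg ((mul_comm g _).trans (h2.trans (mul_comm _ g)))
  have key : ∀ v, Groth.L22.Cyc.fibMap C.j η rfl v = C.j.stalkMap η v := fun v => by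
    show C.j.stalkMap η ((P.presheaf.stalkSpecializes (specializes_of_eq rfl)) v) = _
    rw [TopCat.Presheaf.stalkSpecializes_refl]
    rfl
  rw [key, key] at h3
  exact (ConcreteCategory.bijective_of_isIso (C.j.stalkMap η)).1 h3

/-- A zero scheme is affine over the base, of finite type, flat, of the dimension of its charts. -/
theorem zeroScheme_props {n r : ℕ} {M : P.Modules} (hM : PicF.IsInvertible M) {s : Γ(M, ⊤)} (ι : D ⟶ P)
    [IsClosedImmersion ι] (hι : Cyc.IsZeroSchemeOf ι M s)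
    (h : ∀ x : X, ∃ (C : Chart π n) (f : MvPolynomial (Fin n) C.R), x ∈ Set.range C.v ∧ C.EqIn s f ∧
      Flat (quotMap f) ∧ Cyc.HasRelDim (quotMap f) r) :
    IsAffineHom (ι ≫ π) ∧ Flat (ι ≫ π) ∧ LocallyOfFiniteType (ι ≫ π) ∧ Cyc.HasRelDim (ι ≫ π) r := by
  have key : ∀ x : X, ∃ (C : Chart π n) (f : MvPolynomial (Fin n) C.R)
      (q : Spec (CommRingCat.of (MvPolynomial (Fin n) C.R ⧸ Ideal.span {f})) ⟶ D), x ∈ Set.range C.v ∧
        IsPullback q (quotMap f) (ι ≫ π) C.v ∧ Flat (quotMap f) ∧ Cyc.HasRelDim (quotMap f) r := fun x => by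
    obtain ⟨C, f, hx, hf, h1, h2⟩ := h x
    obtain ⟨q, hq⟩ := C.exists_sq hM ι hι hf
    exact ⟨C, f, q, hx, hq, h1, h2⟩
  choose C f q hx hq hflat hdim using key
  have hl : LocallyOfFiniteType (ι ≫ π) := of_charts (Q := @LocallyOfFiniteType) fun x =>
    ⟨_, _, (C x).v, inferInstance, q x, _, hx x, hq x, (HasRingHomProperty.Spec_iff (P := @LocallyOfFiniteType)).2
      (RingHom.finiteType_algebraMap.2
        (Algebra.FiniteType.of_surjective (Ideal.Quotient.mkₐ _ _) Ideal.Quotient.mk_surjective))⟩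
  refine ⟨of_charts (Q := @IsAffineHom) fun x => ⟨_, _, (C x).v, inferInstance, q x, _, hx x, hq x, inferInstance⟩,
    of_charts (Q := @Flat) fun x => ⟨_, _, (C x).v, inferInstance, q x, _, hx x, hq x, hflat x⟩, hl, ?_⟩
  haveI := hl
  exact hasRelDim_of_charts fun x => ⟨_, _, (C x).v, inferInstance, q x, _, hx x, hq x, hdim x⟩

/-- A family of affine spaces is affine, of finite type, flat, of the right relative dimension. -/
theorem chart_props {n : ℕ} (h : ∀ x : X, ∃ C : Chart π n, x ∈ Set.range C.v) :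
    IsAffineHom π ∧ Flat π ∧ LocallyOfFiniteType π ∧ Cyc.HasRelDim π n := by
  choose C hx using h
  have hl : LocallyOfFiniteType π := of_charts (Q := @LocallyOfFiniteType) fun x =>
    ⟨_, _, (C x).v, inferInstance, (C x).j, _, hx x, (C x).sq,
      (HasRingHomProperty.Spec_iff (P := @LocallyOfFiniteType)).2
        (RingHom.finiteType_algebraMap.2 inferInstance)⟩
  refine ⟨of_charts (Q := @IsAffineHom) fun x => ⟨_, _, (C x).v, inferInstance, (C x).j, _, hx x, (C x).sq,
    inferInstance⟩, of_charts (Q := @Flat) fun x => ⟨_, _, (C x).v, inferInstance, (C x).j, _, hx x, (C x).sq,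
    (HasRingHomProperty.Spec_iff (P := @Flat)).2 (RingHom.flat_algebraMap_iff.2 inferInstance)⟩, hl, ?_⟩
  haveI := hl
  exact hasRelDim_of_charts fun x => ⟨_, _, (C x).v, inferInstance, (C x).j, _, hx x, (C x).sq,
    hasRelDim_affMap _ n⟩

end Groth.L16.Deform
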