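import Groth.Agent.L16.Deform.Model
import Groth.Agent.L19.ProjBdl.Chart
import Groth.Agent.L22.Chern.Tensor
import Groth.Agent.L17.HTor.Acyc
import Groth.Agent.L16.SymBiprod.Basic
import Groth.Agent.L16.ProjSpace.Twist
import Mathlib.AlgebraicGeometry.AffineSpace

/-!
# Every Gysin triple has a model
-/

set_option autoImplicit false
set_option linter.style.haveILetI false
set_option backward.isDefEq.respectTransparency false
set_option backward.isDefEq.respectTransparency.types false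

universe u

open CategoryTheory CategoryTheory.Limits AlgebraicGeometry TopologicalSpace Opposite
open Groth.L18.Frame (rs ro rs_rs rs_smul rs_self IsFrame pull pull_rs pull_smul isUnit_of_isFrame)
open Groth.L19.ProjBdl (one1 isFrame_one1 IsBasisOn lc app_rs pullTop pullTop_mono pullTop_smul isFrame_pullTop)

noncomputable section

namespace Groth.L16.Deform

variable {X P0 T : Scheme.{u}} {L : X.Modules}

/-- The rank two module `O ⊕ L`. -/
abbrev extO (L : X.Modules) : X.Modules := Coh.structureModule X ⊞ L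

/-- The basis given by a frame of `L`. -/
def biBasis {V : X.Opens} (e : Γ(L, V)) : Fin 2 → Γ(extO L, V) :=
  ![(biprod.inr : L ⟶ extO L).app V e, (biprod.inl : Coh.structureModule X ⟶ extO L).app V (one1 X V)]

theorem isBasisOn_biBasis {V : X.Opens} {e : Γ(L, V)} (he : IsFrame L V e) :
    IsBasisOn (extO L) V (biBasis e) := by
  intro W h
  let iR : L ⟶ extO L := biprod.inr
  let iL : Coh.structureModule X ⟶ extO L := biprod.inl
  let pR : extO L ⟶ L := biprod.snd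
  let pL : extO L ⟶ Coh.structureModule X := biprod.fst
  have key : ∀ c : Fin 2 → Γ(X, W), lc _ (biBasis e) h c = iR.app W (c 0 • rs L h e) + iL.app W (c 1) := by
    intro c
    have h1 : (c 1 : Γ(X, W)) • rs (Coh.structureModule X) h (one1 X V) =
        (show Γ(Coh.structureModule X, W) from c 1) := by
      rw [Groth.L19.ProjBdl.rs_one1]
      exact Groth.L19.ProjBdl.smul_one1 _
    show (∑ i, c i • rs _ h (biBasis e i)) = _
    rw [Fin.sum_univ_two, Scheme.Modules.Hom.app_smul, app_rs]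
    refine congrArg₂ (· + ·) rfl ?_
    refine Eq.trans ?_ (congrArg (iL.app W) h1)
    rw [Scheme.Modules.Hom.app_smul, app_rs]
    rfl
  have hRR : ∀ y, pR.app W (iR.app W y) = y := fun y =>
    congrArg (fun g : L ⟶ L => g.app W y) (biprod.inr_snd : iR ≫ pR = 𝟙 _)
  have hLR : ∀ y, pR.app W (iL.app W y) = 0 := fun y =>
    congrArg (fun g : Coh.structureModule X ⟶ L => g.app W y) (biprod.inl_snd : iL ≫ pR = 0)
  have hRL : ∀ y, pL.app W (iR.app W y) = 0 := fun y =>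
    congrArg (fun g : L ⟶ Coh.structureModule X => g.app W y) (biprod.inr_fst : iR ≫ pL = 0)
  have hLL : ∀ y, pL.app W (iL.app W y) = y := fun y =>
    congrArg (fun g : Coh.structureModule X ⟶ Coh.structureModule X => g.app W y)
      (biprod.inl_fst : iL ≫ pL = 𝟙 _)
  refine ⟨fun c c' hc => ?_, fun m => ?_⟩
  · rw [key, key] at hc
    have h0 := congrArg (pR.app W) hc
    have h1 := congrArg (pL.app W) hc
    rw [map_add, map_add, hRR, hRR, hLR, hLR, add_zero, add_zero] at h0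
    rw [map_add, map_add, hRL, hRL, hLL, hLL, zero_add, zero_add] at h1
    funext i
    fin_cases i
    · exact (he W h).1 h0
    · exact h1
  · obtain ⟨a, ha⟩ := (he W h).2 (pR.app W m)
    refine ⟨![a, pL.app W m], ?_⟩
    rw [key]
    show iR.app W (a • rs L h e) + iL.app W (pL.app W m) = m
    rw [show a • rs L h e = pR.app W m from ha, add_comm]
    exact Groth.L16.SymBiprod.biprod_app_total W m

theorem bijective_app_of_frames {Y : Scheme.{u}} {M N : Y.Modules} (φ : M ⟶ N) {W : Y.Opens} {e : Γ(M, W)}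
    (he : IsFrame M W e) (he' : IsFrame N W (φ.app W e)) (V : Y.Opens) (h : V ≤ W) :
    Function.Bijective (φ.app V) := by
  have h1 := he' V h
  rw [show (fun a : Γ(Y, V) => a • rs N h (φ.app W e)) = φ.app V ∘ fun a => a • rs M h e from funext fun a => by
    rw [Function.comp_apply, Scheme.Modules.Hom.app_smul, app_rs]] at h1
  exact (Function.Bijective.of_comp_iff _ (he V h)).1 h1

variable {p : P0 ⟶ X} {O1 : P0.Modules} (q : (Scheme.Modules.pullback p).obj (extO L) ⟶ O1)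

/-- The section of `O(1)` given by a section of `L`. -/
def secL (W : X.Opens) (m : Γ(L, W)) : Γ(O1, p ⁻¹ᵁ W) :=
  q.app (p ⁻¹ᵁ W) (pull p (extO L) W ((biprod.inr : L ⟶ extO L).app W m))

theorem secL_rs {W W' : X.Opens} (h : W' ≤ W) (m : Γ(L, W)) :
    rs O1 (p.preimage_mono h) (secL q W m) = secL q W' (rs L h m) := by
  rw [secL, ← app_rs, pull_rs, ← app_rs]
  rfl

theorem secL_smul {W : X.Opens} (a : Γ(X, W)) (m : Γ(L, W)) : secL q W (a • m) = p.app W a • secL q W m := by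
  rw [secL, Scheme.Modules.Hom.app_smul, pull_smul, Scheme.Modules.Hom.app_smul]
  rfl

/-- The section of `O(1)` given by `1`. -/
def secO : Γ(O1, p ⁻¹ᵁ (⊤ : X.Opens)) :=
  q.app (p ⁻¹ᵁ ⊤) (pull p (extO L) ⊤ ((biprod.inl : Coh.structureModule X ⟶ extO L).app ⊤ (one1 X ⊤)))

theorem sec_zero {V : X.Opens} (e : Γ(L, V)) : Groth.L19.ProjBdl.sec p q (biBasis e) 0 = secL q V e := rfl

theorem sec_one {V : X.Opens} (e : Γ(L, V)) :
    Groth.L19.ProjBdl.sec p q (biBasis e) 1 = rs O1 (p.preimage_mono (le_top : V ≤ ⊤)) (secO q) := by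
  rw [secO, ← app_rs, pull_rs p _ (le_top : V ≤ ⊤), ← app_rs _ (le_top : V ≤ ⊤), Groth.L19.ProjBdl.rs_one1]
  rfl

/-- The locus of a frame of `L`. -/
abbrev loc {V : X.Opens} (e : Γ(L, V)) : P0.Opens := Groth.L19.ProjBdl.locus p q (biBasis e) 0

theorem loc_inter {V V' : X.Opens} {e : Γ(L, V)} {e' : Γ(L, V')} (he : IsFrame L V e) (he' : IsFrame L V' e') :
    loc q e' ⊓ p ⁻¹ᵁ V ≤ loc q e := by
  let V'' := V ⊓ V'
  obtain ⟨a, ha⟩ := (he'.mono (inf_le_right : V'' ≤ V')).exists_coeff le_rfl (rs L (inf_le_left : V'' ≤ V) e)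
  rw [rs_self] at ha
  have hu : IsUnit a := isUnit_of_isFrame (he'.mono (inf_le_right : V'' ≤ V')) (ha.symm ▸ he.mono inf_le_left)
  let W := loc q e' ⊓ p ⁻¹ᵁ V
  have hW : W ≤ p ⁻¹ᵁ V'' := fun z hz => ⟨hz.2, Groth.L19.ProjBdl.locus_le p q _ 0 hz.1⟩
  refine Groth.L19.ProjBdl.le_locus p q _ inf_le_right ?_
  have h1 := ((Groth.L19.ProjBdl.isFrame_locus p q (biBasis e') 0).mono (inf_le_left : W ≤ loc q e'))
  have h2 := h1.smul_unit ((hu.map (p.app V'').hom).map (P0.presheaf.map (homOfLE hW).op).hom)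
  convert h2 using 1
  rw [sec_zero, sec_zero, rs_rs, ← rs_rs O1 (p.preimage_mono (inf_le_left : V'' ≤ V)) hW,
    secL_rs q (inf_le_left : V'' ≤ V), ← ha, secL_smul, rs_smul, ← secL_rs q (inf_le_right : V'' ≤ V'), rs_rs]

/-- The comparison of the pullback of `L` with that of `O(1)`. -/
def toO1 (G : T ⟶ P0) : (Scheme.Modules.pullback (G ≫ p)).obj L ⟶ (Scheme.Modules.pullback G).obj O1 :=
  (Scheme.Modules.pullback (G ≫ p)).map (biprod.inr : L ⟶ extO L) ≫ Groth.L22.Bundle.cI G p (extO L) ≫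
    (Scheme.Modules.pullback G).map q

theorem toO1_pull (G : T ⟶ P0) (W : X.Opens) (m : Γ(L, W)) :
    (toO1 q G).app ((G ≫ p) ⁻¹ᵁ W) (pull (G ≫ p) L W m) = pull G O1 (p ⁻¹ᵁ W) (secL q W m) := by
  let iR : L ⟶ extO L := biprod.inr
  let mR := iR.app W m
  let y := pull p (extO L) W mR
  have h1 : ((Scheme.Modules.pullback (G ≫ p)).map iR).app ((G ≫ p) ⁻¹ᵁ W) (pull (G ≫ p) L W m) =
      pull (G ≫ p) (extO L) W mR := Groth.L19.ProjBdl.pull_app (G ≫ p) iR W m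
  have h2 : (Groth.L22.Bundle.cI G p (extO L)).app ((G ≫ p) ⁻¹ᵁ W) (pull (G ≫ p) (extO L) W mR) =
      pull G _ (p ⁻¹ᵁ W) y := Groth.L22.Bundle.pull_cI G p (extO L) W mR
  have h3 : ((Scheme.Modules.pullback G).map q).app (G ⁻¹ᵁ (p ⁻¹ᵁ W)) (pull G _ (p ⁻¹ᵁ W) y) =
      pull G O1 (p ⁻¹ᵁ W) (q.app (p ⁻¹ᵁ W) y) := Groth.L19.ProjBdl.pull_app G q (p ⁻¹ᵁ W) y
  exact (congrArg _ ((congrArg _ h1).trans h2)).trans h3

theorem toO1_frame (G : T ⟶ P0) {V : X.Opens} {e : Γ(L, V)} (he : IsFrame L V e) (U : T.Opens)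
    (hU : U ≤ G ⁻¹ᵁ loc q e) :
    ∀ W ≤ U, Function.Bijective ((toO1 q G).app W) := by
  have hUV : U ≤ (G ≫ p) ⁻¹ᵁ V := hU.trans (G.preimage_mono (Groth.L19.ProjBdl.locus_le p q _ 0))
  refine bijective_app_of_frames (toO1 q G) ((he.pullback (G ≫ p) L).mono hUV) ?_
  rw [app_rs, toO1_pull]
  have h := ((Groth.L19.ProjBdl.isFrame_locus p q (biBasis e) 0).pullback G O1).mono hU
  rwa [← pull_rs, rs_rs] at h

/-- On a family landing in the loci the section `1` is a multiple of the frame. -/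
theorem isIso_toO1 (G : T ⟶ P0)
    (hG : ∀ z : T, ∃ (V : X.Opens) (e : Γ(L, V)), IsFrame L V e ∧ G z ∈ loc q e) : IsIso (toO1 q G) := by
  choose V e he hz using hG
  exact Groth.L18.IsoCover.isIso_of_bijective (toO1 q G) (fun z => G ⁻¹ᵁ loc q (e z)) (fun z => ⟨z, hz z⟩)
    fun z W hW => toO1_frame q G (he z) _ le_rfl W hW

theorem rs_coord_section (G : T ⟶ P0) [IsIso (toO1 q G)] (l : Γ((Scheme.Modules.pullback (G ≫ p)).obj L, ⊤))
    (hl : (toO1 q G).app ⊤ l = pull G O1 (p ⁻¹ᵁ ⊤) (secO q)) {V : X.Opens} (e : Γ(L, V)) :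
    rs _ (le_top : G ⁻¹ᵁ loc q e ≤ ⊤) l =
      G.app (loc q e) (Groth.L19.ProjBdl.crd p q (biBasis e) 0 1) •
        rs _ (G.preimage_mono (Groth.L19.ProjBdl.locus_le p q (biBasis e) 0))
          (pull (G ≫ p) L V e) := by
  let W := loc q e
  have hWV : W ≤ p ⁻¹ᵁ V := Groth.L19.ProjBdl.locus_le p q (biBasis e) 0
  let crd := Groth.L19.ProjBdl.crd p q (biBasis e) 0 1
  refine (ConcreteCategory.bijective_of_isIso ((toO1 q G).app (G ⁻¹ᵁ W))).1 ?_
  have e1 : rs O1 (show W ≤ p ⁻¹ᵁ (⊤ : X.Opens) from le_top) (secO q) = crd • rs O1 hWV (secL q V e) :=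
    Eq.symm ((Groth.L19.ProjBdl.crd_smul p q (biBasis e) 0 1).trans
      ((congrArg (rs O1 hWV) (sec_one q e)).trans (rs_rs _ _ _ _)))
  have hR : (toO1 q G).app (G ⁻¹ᵁ W) (G.app W crd • rs _ (G.preimage_mono hWV) (pull (G ≫ p) L V e)) =
      G.app W crd • pull G O1 W (rs O1 hWV (secL q V e)) := by
    rw [Scheme.Modules.Hom.app_smul]
    refine congrArg (G.app W crd • ·) ((app_rs (toO1 q G) (G.preimage_mono hWV) _).trans ?_)
    exact (congrArg _ (toO1_pull q G V e)).trans (pull_rs G O1 hWV _)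
  have hL' : (toO1 q G).app (G ⁻¹ᵁ W) (rs _ (le_top : G ⁻¹ᵁ W ≤ ⊤) l) =
      pull G O1 W (rs O1 (show W ≤ p ⁻¹ᵁ (⊤ : X.Opens) from le_top) (secO q)) := by
    refine (app_rs (toO1 q G) le_top l).trans ((congrArg _ hl).trans ?_)
    exact pull_rs G O1 (show W ≤ p ⁻¹ᵁ (⊤ : X.Opens) from le_top) (secO q)
  exact hL'.trans ((congrArg _ e1).trans ((pull_smul G O1 crd _).trans hR.symm))

/-- The two variables of the model. -/
def varEquiv : PUnit.{u + 1} ⊕ {i : Fin 2 // i ≠ 0} ≃ Fin 2 :=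
  Equiv.ofBijective (Sum.elim (fun _ => 0) Subtype.val) ⟨by
    rintro (a | ⟨a, ha⟩) (b | ⟨b, hb⟩) h <;> simp_all [eq_comm], fun i => by
    by_cases h : i = 0
    · exact ⟨Sum.inl PUnit.unit, h.symm⟩
    · exact ⟨Sum.inr ⟨i, h⟩, rfl⟩⟩

/-- Two variables as one variable over one variable. -/
def polyEquiv (R : Type u) [CommRing R] :
    MvPolynomial PUnit.{u + 1} (MvPolynomial {i : Fin 2 // i ≠ 0} R) ≃+* MvPolynomial (Fin 2) R :=
  (MvPolynomial.sumRingEquiv R PUnit.{u + 1} {i : Fin 2 // i ≠ 0}).symm.trans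
    (MvPolynomial.renameEquiv R varEquiv).toRingEquiv

theorem polyEquiv_C_C (R : Type u) [CommRing R] (r : R) :
    polyEquiv R (MvPolynomial.C (MvPolynomial.C r)) = MvPolynomial.C r := by
  rw [← MvPolynomial.sumRingEquiv_C R PUnit.{u + 1} {i : Fin 2 // i ≠ 0} r, polyEquiv, RingEquiv.trans_apply,
    RingEquiv.symm_apply_apply]
  exact MvPolynomial.rename_C _ _

theorem polyEquiv_C_X (R : Type u) [CommRing R] (i : {i : Fin 2 // i ≠ 0}) :
    polyEquiv R (MvPolynomial.C (MvPolynomial.X i)) = MvPolynomial.X i.1 := by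
  rw [← MvPolynomial.sumRingEquiv_X_inr R PUnit.{u + 1} {i : Fin 2 // i ≠ 0} i, polyEquiv, RingEquiv.trans_apply,
    RingEquiv.symm_apply_apply]
  exact MvPolynomial.rename_X _ _

theorem polyEquiv_X (R : Type u) [CommRing R] (i : PUnit.{u + 1}) :
    polyEquiv R (MvPolynomial.X i) = MvPolynomial.X 0 := by
  rw [← MvPolynomial.sumRingEquiv_X_inl R PUnit.{u + 1} {i : Fin 2 // i ≠ 0} i, polyEquiv, RingEquiv.trans_apply,
    RingEquiv.symm_apply_apply]
  exact MvPolynomial.rename_X _ _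

theorem fromSpec_appLE {Y : Scheme.{u}} {V : Y.Opens} (hV : IsAffineOpen V) :
    hV.fromSpec.appLE V ⊤ hV.fromSpec_preimage_self.ge = (Scheme.ΓSpecIso Γ(Y, V)).inv := by
  rw [Scheme.Hom.appLE, hV.fromSpec_app_self, Category.assoc, ← Functor.map_comp]
  exact (congrArg ((Scheme.ΓSpecIso Γ(Y, V)).inv ≫ ·) ((Spec Γ(Y, V)).presheaf.map_id _)).trans
    (Category.comp_id _)

theorem appLE_app {A B C : Scheme.{u}} (f : A ⟶ B) (g : B ⟶ C) (h : A ⟶ C) (hfg : f ≫ g = h) (W : C.Opens)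
    (e : ⊤ ≤ f ⁻¹ᵁ (g ⁻¹ᵁ W)) (a : Γ(C, W)) :
    f.appLE (g ⁻¹ᵁ W) ⊤ e (g.app W a) = h.appLE W ⊤ (by subst hfg; exact e) a := by
  subst hfg
  rw [Scheme.Hom.app_eq_appLE, ← CommRingCat.comp_apply, Scheme.Hom.appLE_comp_appLE]

theorem appLE_specMap {A B : CommRingCat.{u}} (φ : A ⟶ B) {C : Scheme.{u}} (g : Spec A ⟶ C) {W : C.Opens}
    (e : ⊤ ≤ g ⁻¹ᵁ W) (e' : ⊤ ≤ (Spec.map φ ≫ g) ⁻¹ᵁ W) {a : Γ(C, W)} {b : A}
    (h : g.appLE W ⊤ e a = (Scheme.ΓSpecIso A).inv b) :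
    (Spec.map φ ≫ g).appLE W ⊤ e' a = (Scheme.ΓSpecIso B).inv (φ b) := by
  rw [← Scheme.Hom.appLE_comp_appLE (Spec.map φ) g W ⊤ ⊤ e le_top, CommRingCat.comp_apply, h]
  exact (congr($((Scheme.Hom.app_eq_appLE (Spec.map φ) (U := ⊤)).symm) _)).trans (appTop_spec_map φ b)

/-- The first coordinate in a chart. -/
theorem chart_coord {R : Type u} [CommRing R] (U : Scheme.{u})
    (j1 : Spec (CommRingCat.of (MvPolynomial {i : Fin 2 // i ≠ 0} R)) ⟶ U) :
    ((Spec.map (polyEquiv R).toCommRingCatIso.hom ≫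
      (AffineSpace.SpecIso PUnit.{u + 1} (CommRingCat.of (MvPolynomial {i : Fin 2 // i ≠ 0} R))).inv) ≫
        AffineSpace.map PUnit.{u + 1} j1).appTop (AffineSpace.coord U PUnit.unit) =
      (Scheme.ΓSpecIso (CommRingCat.of (MvPolynomial (Fin 2) R))).inv (MvPolynomial.X 0) := by
  rw [Scheme.Hom.comp_appTop, CommRingCat.comp_apply, AffineSpace.map_appTop_coord, Scheme.Hom.comp_appTop,
    CommRingCat.comp_apply, AffineSpace.SpecIso_inv_appTop_coord]
  exact (appTop_spec_map _ _).trans (congrArg _ (polyEquiv_X R PUnit.unit))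

/-- The equations in a chart. -/
theorem chart_eqs (G : T ⟶ P0) [IsIso (toO1 q G)] (l : Γ((Scheme.Modules.pullback (G ≫ p)).obj L, ⊤))
    (hl : (toO1 q G).app ⊤ l = pull G O1 (p ⁻¹ᵁ ⊤) (secO q)) {V : X.Opens} (hV : IsAffineOpen V) {e : Γ(L, V)}
    (he : IsFrame L V e) (σ : Γ(L, ⊤))
    (j : Spec (CommRingCat.of (MvPolynomial (Fin 2) Γ(X, V))) ⟶ T)
    (sq : IsPullback j (affMap Γ(X, V) 2) (G ≫ p) hV.fromSpec) {A : CommRingCat.{u}} (j0 : Spec A ⟶ P0)
    (hW0 : ⊤ ≤ j0 ⁻¹ᵁ loc q e) {r : A}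
    (hr : j0.appLE _ ⊤ hW0 (Groth.L19.ProjBdl.crd p q (biBasis e) 0 1) = (Scheme.ΓSpecIso A).inv r)
    (ρ : A ⟶ CommRingCat.of (MvPolynomial (Fin 2) Γ(X, V))) (hρ : ρ r = MvPolynomial.X 1)
    (hjG : j ≫ G = Spec.map ρ ≫ j0) :
    ∃ (c : Γ(X, V)) (e' : Γ((Scheme.Modules.pullback j).obj ((Scheme.Modules.pullback (G ≫ p)).obj L), ⊤)),
      IsFrame _ ⊤ e' ∧
      pull j _ ⊤ l =
        (Scheme.ΓSpecIso (CommRingCat.of (MvPolynomial (Fin 2) Γ(X, V)))).inv (MvPolynomial.X 1) • e' ∧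
      pull j _ ⊤ (pull (G ≫ p) L ⊤ σ) =
        (Scheme.ΓSpecIso (CommRingCat.of (MvPolynomial (Fin 2) Γ(X, V)))).inv (MvPolynomial.C c) • e' := by
  have hjV : ⊤ ≤ j ⁻¹ᵁ ((G ≫ p) ⁻¹ᵁ V) := fun z _ => by
    show (j ≫ G ≫ p) z ∈ V
    rw [sq.w]
    exact hV.range_fromSpec.le ⟨_, rfl⟩
  have hjW : ⊤ ≤ j ⁻¹ᵁ (G ⁻¹ᵁ loc q e) := fun z _ => by
    show (j ≫ G) z ∈ loc q e
    rw [hjG]
    exact hW0 (Set.mem_univ _)
  have htop : ⊤ ≤ j ⁻¹ᵁ (⊤ : T.Opens) := fun z _ => trivial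
  obtain ⟨c, hc⟩ := he.exists_coeff le_rfl (rs L (le_top : V ≤ ⊤) σ)
  rw [rs_self] at hc
  let M := (Scheme.Modules.pullback (G ≫ p)).obj L
  let y := pull (G ≫ p) L V e
  have hWV : G ⁻¹ᵁ loc q e ≤ (G ≫ p) ⁻¹ᵁ V :=
    G.preimage_mono (Groth.L19.ProjBdl.locus_le p q (biBasis e) 0)
  have hp : ∀ m : Γ(M, ⊤), pullTop j M htop m = pull j M ⊤ m := fun m => rs_self _ _ _
  refine ⟨c, pullTop j M hjV y, isFrame_pullTop j hjV (he.pullback _ L), ?_, ?_⟩
  · refine (hp l).symm.trans ((pullTop_mono j M htop le_top hjW l).symm.trans ?_)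
    refine (congrArg (pullTop j M hjW) (rs_coord_section q G l hl e)).trans ?_
    refine (pullTop_smul j M hjW _ _).trans (congrArg₂ (· • ·) ?_ (pullTop_mono j M hjV hWV hjW y))
    rw [appLE_app j G _ hjG, appLE_specMap ρ j0 hW0 _ hr, hρ]
  · let m := pull (G ≫ p) L ⊤ σ
    refine (hp m).symm.trans ((pullTop_mono j M htop ((G ≫ p).preimage_mono le_top) hjV m).symm.trans ?_)
    refine (congrArg (pullTop j M hjV) ((pull_rs (G ≫ p) L (le_top : V ≤ ⊤) σ).trans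
      ((congrArg _ hc.symm).trans (pull_smul (G ≫ p) L c e)))).trans ?_
    refine (pullTop_smul j M hjV _ _).trans (congrArg (· • pullTop j M hjV y) ?_)
    refine (appLE_app j (G ≫ p) _ sq.w V hjV c).trans ?_
    exact appLE_specMap (A := Γ(X, V)) (B := CommRingCat.of (MvPolynomial (Fin 2) Γ(X, V)))
      (CommRingCat.ofHom (MvPolynomial.C : Γ(X, V) →+* MvPolynomial (Fin 2) Γ(X, V))) hV.fromSpec
      hV.fromSpec_preimage_self.ge _ (congr($(fromSpec_appLE hV) c))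

/-- Every Gysin triple has a model. -/
theorem exists_model {D : Scheme.{u}} (i : D ⟶ X) [IsClosedImmersion i] (hL : PicF.IsInvertible L) {σ : Γ(L, ⊤)}
    (hσ : Cyc.IsZeroSchemeOf i L σ) :
    ∃ (P : Scheme.{u}) (π : P ⟶ X) (t : Γ(P, ⊤)) (l : Γ((Scheme.Modules.pullback π).obj L, ⊤)),
      IsModel π i ((Scheme.Modules.pullback π).obj L) t l (pull π L ⊤ σ) := by
  classical
  haveI := Groth.L21.Extend.isQCoh_of_isInvertible hL
  have hq : Coh.IsQCoh (extO L) :=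
    Groth.L17.HTorRG.Acyc.isQCoh_biprod
      (Groth.L21.Extend.isQCoh_of_isInvertible (Groth.L22.Bundle.isInvertible_of_one
        Groth.L19.ProjBdl.isFinLocFreeOfRank_one_structureModule))
      inferInstance
  obtain ⟨_, _, P0, p, _, O1, _, q, -, -, -, hPB⟩ := Groth.L22.Chern.exists_relProj_bundle hq
  let K := {k : Σ V : X.Opens, Γ(L, V) // IsAffineOpen k.1 ∧ IsFrame L k.1 k.2}
  let U : P0.Opens := ⨆ k : K, loc q k.1.2
  let a : 𝔸(PUnit.{u + 1}; U.toScheme) ⟶ U.toScheme := 𝔸(PUnit.{u + 1}; U.toScheme) ↘ U.toScheme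
  let G := a ≫ U.ι
  let π := G ≫ p
  have hG : ∀ z, ∃ (V : X.Opens) (e : Γ(L, V)), IsFrame L V e ∧ G z ∈ loc q e := fun z => by
    obtain ⟨k, hk⟩ := Opens.mem_iSup.1 (show G z ∈ U from (a z).2)
    exact ⟨_, _, k.2.2, hk⟩
  haveI := isIso_toO1 q G hG
  obtain ⟨l, hl⟩ := (ConcreteCategory.bijective_of_isIso ((toO1 q G).app ⊤)).2 (pull G O1 (p ⁻¹ᵁ ⊤) (secO q))
  refine ⟨_, π, AffineSpace.coord U.toScheme PUnit.unit, l, ?_⟩
  refine ⟨Groth.L18.Ample.isInvertible_pullback π hL, fun x => ?_,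
    Groth.L22.C1.isZeroScheme_base π i hL σ hσ⟩
  obtain ⟨W, e₁, hxW, he₁⟩ := Groth.L18.Frame.exists_frame hL x
  obtain ⟨V, hV, hxV, hVW⟩ := exists_isAffineOpen_mem_and_subset (x := x) (U := W) hxW
  let e := rs L (show V ≤ W from hVW) e₁
  have he : IsFrame L V e := he₁.mono _
  obtain ⟨j0, hj0, hW0, hrange, hj0p, hj0r⟩ :=
    Groth.L19.ProjBdl.exists_chart hPB (isBasisOn_biBasis he) hV (0 : Fin 2)
  haveI := hj0
  have hlocU : loc q e ≤ U := le_iSup (fun k : K => loc q k.1.2) ⟨⟨V, e⟩, hV, he⟩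
  have hj0U : Set.range j0 ⊆ Set.range U.ι := by
    rw [Scheme.Opens.range_ι]
    rintro _ ⟨z, rfl⟩
    exact hlocU (hrange.le (⟨z, rfl⟩ : j0 z ∈ j0.opensRange))
  let R := Γ(X, V)
  let A := CommRingCat.of (Groth.L19.ProjBdl.Acrd V (0 : Fin 2))
  let j1 : Spec A ⟶ U.toScheme := IsOpenImmersion.lift U.ι j0 hj0U
  have hj1 : j1 ≫ U.ι = j0 := IsOpenImmersion.lift_fac _ _ _
  haveI : IsOpenImmersion j1 := by
    haveI : IsOpenImmersion (j1 ≫ U.ι) := hj1 ▸ hj0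
    exact IsOpenImmersion.of_comp j1 U.ι
  let affA : Spec A ⟶ Spec R := Spec.map (CommRingCat.ofHom (MvPolynomial.C : R →+* Groth.L19.ProjBdl.Acrd V (0 : Fin 2)))
  have sU : IsPullback j1 affA (U.ι ≫ p) hV.fromSpec := by
    refine (IsOpenImmersion.isPullback affA j1 hV.fromSpec (U.ι ≫ p) (by rw [← Category.assoc, hj1, hj0p]) ?_).flip
    refine le_antisymm (fun z hz => ?_) ?_
    · obtain ⟨k, hk⟩ := Opens.mem_iSup.1 (show U.ι z ∈ U from z.2)
      have hpV : p (U.ι z) ∈ V := hV.range_fromSpec.le hz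
      obtain ⟨w, hw⟩ : U.ι z ∈ Set.range j0 := hrange.ge (loc_inter q he k.2.2 ⟨hk, hpV⟩)
      exact ⟨w, U.ι.isOpenEmbedding.injective (by rw [← Scheme.Hom.comp_apply, hj1]; exact hw)⟩
    · rintro _ ⟨w, rfl⟩
      refine hV.range_fromSpec.ge ?_
      show p (U.ι (j1 w)) ∈ V
      rw [← Scheme.Hom.comp_apply j1, hj1]
      exact Groth.L19.ProjBdl.locus_le p q _ 0 (hW0 (Set.mem_univ w))
  let ρ : A ⟶ CommRingCat.of (MvPolynomial (Fin 2) R) :=
    CommRingCat.ofHom ((polyEquiv R).toRingHom.comp MvPolynomial.C)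
  let θ : CommRingCat.of (MvPolynomial PUnit.{u + 1} A) ⟶ CommRingCat.of (MvPolynomial (Fin 2) R) :=
    (polyEquiv R).toCommRingCatIso.hom
  let j : Spec (CommRingCat.of (MvPolynomial (Fin 2) R)) ⟶ 𝔸(PUnit.{u + 1}; U.toScheme) :=
    (Spec.map θ ≫ (AffineSpace.SpecIso PUnit.{u + 1} A).inv) ≫ AffineSpace.map PUnit.{u + 1} j1
  have hρ : Spec.map ρ = Spec.map θ ≫ Spec.map (CommRingCat.ofHom MvPolynomial.C) := by
    rw [← Spec.map_comp]
    rfl
  have hover : (Spec.map θ ≫ (AffineSpace.SpecIso PUnit.{u + 1} A).inv) ≫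
      (𝔸(PUnit.{u + 1}; Spec A) ↘ Spec A) = Spec.map ρ := by
    rw [Category.assoc, AffineSpace.SpecIso_inv_over, hρ]
  have s2 : IsPullback j (Spec.map ρ) a j1 := by
    have h1 : IsPullback (Spec.map θ ≫ (AffineSpace.SpecIso PUnit.{u + 1} A).inv) (Spec.map ρ)
        (𝔸(PUnit.{u + 1}; Spec A) ↘ Spec A) (𝟙 (Spec A)) :=
      IsPullback.of_horiz_isIso ⟨by rw [hover, Category.comp_id]⟩
    have h2 := h1.paste_horiz (AffineSpace.isPullback_map j1)
    rwa [Category.id_comp] at h2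
  have haff : Spec.map ρ ≫ affA = affMap R 2 := by
    rw [← Spec.map_comp]
    refine congrArg Spec.map (CommRingCat.hom_ext (RingHom.ext fun r => ?_))
    exact polyEquiv_C_C R r
  have sq : IsPullback j (affMap R 2) π hV.fromSpec := by
    have h := s2.paste_vert sU
    rw [haff] at h
    simpa only [π, G, Category.assoc] using h
  have hjG : j ≫ G = Spec.map ρ ≫ j0 := by
    show j ≫ a ≫ U.ι = _
    rw [← Category.assoc, s2.w, Category.assoc, hj1]
  obtain ⟨c, e', he', hl', hm'⟩ :=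
    chart_eqs q G l hl hV he σ j sq j0 hW0 (hj0r 1) ρ
      (by rw [Groth.L19.ProjBdl.ratio, dif_neg (by decide)]; exact polyEquiv_C_X R _) hjG
  refine ⟨⟨R, hV.fromSpec, j, sq⟩, c, e', hV.range_fromSpec.ge hxV, he', ?_, hl', hm'⟩
  exact chart_coord U.toScheme j1

end Groth.L16.Deform
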