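import Groth.Agent.L16.Deform.Facts
import Groth.Agent.L16.Bivar.Shapes
import Groth.Agent.L16.Bivar.Squares
import Groth.Agent.L22.C1.GysinRel

/-!
# The deformation identity on Chow groups
-/

set_option autoImplicit false
set_option linter.style.haveILetI false
set_option linter.unusedSectionVars false
set_option backward.isDefEq.respectTransparency false
set_option backward.isDefEq.respectTransparency.types false

universe u

open CategoryTheory CategoryTheory.Limits AlgebraicGeometry TopologicalSpace Opposite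
open Groth.L18.Frame (rs rs_self IsFrame pull pull_smul)
open Groth.L19.ProjBdl (one1)
open Groth.L16.BivarOps

noncomputable section

namespace Groth.L16.Deform

section Gysin

variable {X Y D : Scheme.{u}} {δX : X → ℤ} {δY : Y → ℤ} {δD : D → ℤ} {k : ℤ}

/-- The Gysin map of a relative effective Cartier divisor on flat pullbacks. -/
theorem gysinOp_pullOp_rel (p : X ⟶ Y) [Flat p] [LocallyOfFiniteType p] (i : D ⟶ X) [IsClosedImmersion i]
    [Flat (i ≫ p)] [LocallyOfFiniteType (i ≫ p)] {r : ℕ} (hr : Cyc.HasRelDim p (r + 1))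
    (hrD : Cyc.HasRelDim (i ≫ p) r) (hX : Cyc.IsSetup X δX) (hY : Cyc.IsSetup Y δY) (hD : Cyc.IsSetup D δD)
    (hδ : Cyc.DeltaCompat p δX δY) (hi : δD = fun d => δX (i d)) (hδD : Cyc.DeltaCompat (i ≫ p) δD δY)
    {L : X.Modules} (hL : PicF.IsInvertible L) {s : L.presheaf.obj (Opposite.op ⊤)}
    (hs : Cyc.IsZeroSchemeOf i L s)
    (hreg : ∀ x : X, Function.Injective (fun a : X.presheaf.stalk x => a • (L.presheaf.germ ⊤ x trivial) s))
    (e : k + ((r + 1 : ℕ) : ℤ) - 1 = k + (r : ℤ)) (z : ChowOps.CH Y δY k) :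
    Bivar.chCast D δD e (gysinOp i hX hi hL hs (k + ((r + 1 : ℕ) : ℤ)) (pullOp p hr hX hY hδ k z)) =
      pullOp (i ≫ p) hrD hD hY hδD k z := by
  subst hi
  obtain ⟨α, hα, rfl⟩ := Bivar.exists_rep z
  obtain ⟨α₁, hα₁⟩ := exists_pullCycle p hr hX hδ α
  obtain ⟨γ, hγ⟩ := exists_pullCycle (i ≫ p) hrD hD hδD α
  obtain ⟨w, hw⟩ := exists_sec hL
  have hm₁ := Bivar.pullFun_mem_Zk p δX δY ((r + 1 : ℕ) : ℤ) k hα α₁ hα₁
  have hm := Bivar.pullFun_mem_Zk (i ≫ p) (fun d => δX (i d)) δY (r : ℤ) k hα γ hγ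
  have key : ∀ d, γ d = Cyc.c1CapFun δX L ⇑α₁ (Cyc.gysinChoice L s w) (i d) := fun d => by
    have h := Groth.L22.C1.gysin_relCartier p i hL s hX hY r hr hδ hreg hs hrD (k - 1) α
      (by rwa [sub_add_cancel]) w d
    rw [hγ, ← h, hα₁]
    push_cast
    rfl
  rw [pullOp_cl p hr hX hY hδ α hα α₁ hα₁ hm₁, pullOp_cl (i ≫ p) hrD hD hY hδD α hα γ hγ hm,
    gysinOp_cl i hX rfl hL hs α₁ hm₁ w hw γ key (gysin_mem rfl hm₁ key), Bivar.chCast_cl]

/-- A line bundle with a coordinate has injective flat pullback. -/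
theorem pullOp_line_injective (p : X ⟶ Y) [Flat p] [LocallyOfFiniteType p] (i : D ⟶ X) [IsClosedImmersion i]
    [IsIso (i ≫ p)] (hr : Cyc.HasRelDim p 1) (hX : Cyc.IsSetup X δX) (hY : Cyc.IsSetup Y δY)
    (hδ : Cyc.DeltaCompat p δX δY)
    {L : X.Modules} (hL : PicF.IsInvertible L) {s : L.presheaf.obj (Opposite.op ⊤)}
    (hs : Cyc.IsZeroSchemeOf i L s)
    (hreg : ∀ x : X, Function.Injective (fun a : X.presheaf.stalk x => a • (L.presheaf.germ ⊤ x trivial) s)) :
    Function.Injective (pullOp p hr hX hY hδ k) := by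
  let δ₀ : D → ℤ := fun d => δX (i d)
  have hD : Cyc.IsSetup D δ₀ := Groth.L22.C1.isSetup_closedImmersion i hX
  have hc : Cyc.DeltaCompat (i ≫ p) δ₀ δY :=
    Groth.L22.Cyc.deltaCompat_square p i (𝟙 Y) (i ≫ p) hδ (Category.comp_id _)
  have hδ0 := delta_closedImmersion (i ≫ p) hc
  have hr0 : Cyc.HasRelDim (i ≫ p) 0 :=
    Groth.L22.Cyc.hasRelDim_of_rtrdeg _ fun x _ => by rw [Groth.L22.Bundle.rtrdeg_eq_zero, Nat.cast_zero]
  haveI := hD.1
  haveI := hY.1
  have key : ∀ z : ChowOps.CH Y δY k,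
      pushOp (i ≫ p) hD hY hc _ (pullOp (i ≫ p) hr0 hD hY hc k z) =
        Bivar.chCast Y δY (by simp) z := by
    intro z
    obtain ⟨α, hα, rfl⟩ := Bivar.exists_rep z
    obtain ⟨γ, hγ⟩ := exists_pullCycle (i ≫ p) hr0 hD hc α
    rw [pullOp_cl (i ≫ p) hr0 hD hY hc α hα γ hγ (Bivar.pullFun_mem_Zk (i ≫ p) δ₀ δY _ k hα γ hγ), pushOp_cl,
      Bivar.chCast_cl]
    refine Bivar.cl_congr (DFunLike.coe_injective (funext fun y => ?_)) _ _
    rw [← iso_apply_inv (i ≫ p) y, map_iso_apply (i ≫ p) hδ0, hγ,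
      Groth.L22.Cyc.pullFun_eq' _ (shift (i ≫ p) hr0 hc)]
    dsimp only
    rw [Groth.L22.Bundle.mult_openImmersion (i ≫ p)]
    simp
  intro a b hab
  have h1 := congrArg (fun z => Bivar.chCast D δ₀ (by simp : k + ((0 + 1 : ℕ) : ℤ) - 1 = k + ((0 : ℕ) : ℤ))
    (gysinOp i hX rfl hL hs (k + ((0 + 1 : ℕ) : ℤ)) z)) hab
  simp only at h1
  rw [gysinOp_pullOp_rel p i hr hr0 hX hY hD hδ rfl hc hL hs hreg,
    gysinOp_pullOp_rel p i hr hr0 hX hY hD hδ rfl hc hL hs hreg] at h1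
  have h2 := congrArg (pushOp (i ≫ p) hD hY hc _) h1
  rw [key, key] at h2
  exact (Bivar.chCast Y δY _).injective h2

end Gysin

variable {X P D Mz U E : Scheme.{u}}

/-- The structure module pulls back to the structure module. -/
theorem exists_pullO_iso (h : D ⟶ X) :
    ∃ φ : (Scheme.Modules.pullback h).obj (Coh.structureModule X) ≅ Coh.structureModule D,
      ∀ t : Γ(X, ⊤), φ.hom.app ⊤ (pull h (Coh.structureModule X) ⊤ (funSec t)) = funSec (h.appTop t) := by
  let e := pull h (Coh.structureModule X) ⊤ (one1 X ⊤)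
  have hiso : IsIso (Groth.L16.homOfSection _ e) :=
    Groth.L16.isIso_homOfSection _ _ fun W => pull_one_frame h W le_top
  refine ⟨(asIso (Groth.L16.homOfSection _ e)).symm, fun t => ?_⟩
  have h1 : pull h (Coh.structureModule X) ⊤ (funSec t) =
      (Groth.L16.homOfSection _ e).app ⊤ (funSec (h.appTop t)) := by
    rw [Groth.L16.homOfSection_app]
    exact (pull_function h t).trans (congrArg (h.app ⊤ t • ·) (rs_self _ _ e).symm)
  rw [h1]
  exact congr($((asIso (Groth.L16.homOfSection _ e)).hom_inv_id).app ⊤ (funSec (h.appTop t)))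

variable {π : P ⟶ X} {i : D ⟶ X} [IsClosedImmersion i] {M : P.Modules} {t : Γ(P, ⊤)} {l m : Γ(M, ⊤)}

variable (π i) in
/-- The zero schemes of a model. -/
structure Zeros (M : P.Modules) (t : Γ(P, ⊤)) (l m : Γ(M, ⊤)) (ι : Mz ⟶ P) (iU : U ⟶ P) (j : E ⟶ Mz)
    (j' : E ⟶ U) (p : E ⟶ D) : Prop where
  closed_ι : IsClosedImmersion ι
  closed_U : IsClosedImmersion iU
  closed_j : IsClosedImmersion j
  closed_j' : IsClosedImmersion j'
  zero_ι : Cyc.IsZeroSchemeOf ι M (defSec M t l m)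
  zero_U : Cyc.IsZeroSchemeOf iU (Coh.structureModule P) (funSec t)
  sq : IsPullback j j' ι iU
  sq' : IsPullback j' p (iU ≫ π) i

/-- Zero schemes of a model exist. -/
theorem IsModel.exists_zeros (H : IsModel π i M t l m) :
    ∃ (Mz U E : Scheme.{u}) (ι : Mz ⟶ P) (iU : U ⟶ P) (j : E ⟶ Mz) (j' : E ⟶ U) (p : E ⟶ D),
      Zeros π i M t l m ι iU j j' p := by
  obtain ⟨Mz, ι, hι, hzι⟩ := exists_zeroScheme H.inv (defSec M t l m)
  obtain ⟨U, iU, hiU, hzU⟩ := exists_zeroScheme (structureModule_invertible (X := P)) (funSec t)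
  have h1 := Groth.L22.C1.isZeroScheme_base iU ι H.inv _ hzι
  have hdef : pull iU M ⊤ (defSec M t l m) = pull iU M ⊤ m := by
    have h2 : pull iU M ⊤ (defSec M t l m) = iU.app ⊤ t • pull iU M ⊤ l + pull iU M ⊤ m := by
      rw [← pull_smul]
      exact map_add (((Scheme.Modules.pullbackPushforwardAdjunction iU).unit.app M).app ⊤).hom _ _
    have h3 : iU.app ⊤ t = 0 := appTop_eq_zero iU t hzU
    rw [h2, h3, zero_smul, zero_add]
  rw [hdef] at h1
  have h4 := Groth.L22.C1.isZeroScheme_base iU (pullback.fst π i) H.inv _ H.zero_m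
  obtain ⟨θ, hθ⟩ := exists_iso_of_isZeroScheme (Groth.L18.Ample.isInvertible_pullback iU H.inv)
    (pullback.fst iU ι) (pullback.fst iU (pullback.fst π i)) h1 h4
  have sq0 : IsPullback (pullback.fst iU ι)
      (θ.hom ≫ pullback.snd iU (pullback.fst π i)) iU (pullback.fst π i) :=
    (IsPullback.of_hasPullback iU (pullback.fst π i)).of_iso θ.symm (Iso.refl _) (Iso.refl _) (Iso.refl _)
      (by simp [← hθ]) (by simp) (by simp) (by simp)
  exact ⟨Mz, U, pullback iU ι, ι, iU, pullback.snd iU ι, pullback.fst iU ι, _, hι, hiU, inferInstance,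
    inferInstance, hzι, hzU, (IsPullback.of_hasPullback iU ι).flip,
    sq0.paste_vert (IsPullback.of_hasPullback π i).flip.flip⟩

variable {ι : Mz ⟶ P} {iU : U ⟶ P} {j : E ⟶ Mz} {j' : E ⟶ U} {p : E ⟶ D}

theorem Zeros.zero_j' (hz : Zeros π i M t l m ι iU j j' p) (H : IsModel π i M t l m) :
    Cyc.IsZeroSchemeOf j' ((Scheme.Modules.pullback iU).obj M) (pull iU M ⊤ (defSec M t l m)) := by
  haveI := hz.closed_ι
  haveI := hz.closed_j'
  exact Groth.L22.P1Zero.isZeroSchemeOf_iso j' (pullback.fst iU ι) hz.sq.flip.isoPullback.hom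
    hz.sq.flip.isoPullback_hom_fst (Groth.L22.C1.isZeroScheme_base iU ι H.inv _ hz.zero_ι)

theorem Zeros.zero_j (hz : Zeros π i M t l m ι iU j j' p) :
    Cyc.IsZeroSchemeOf j (Coh.structureModule Mz) (funSec (ι.appTop t)) := by
  haveI := hz.closed_U
  haveI := hz.closed_j
  obtain ⟨φ, hφ⟩ := exists_pullO_iso ι
  have h := isZeroScheme_iso φ (Groth.L18.Ample.isInvertible_pullback ι structureModule_invertible)
    structureModule_invertible (Groth.L22.P1Zero.isZeroSchemeOf_iso j (pullback.fst ι iU) hz.sq.isoPullback.hom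
      hz.sq.isoPullback_hom_fst (Groth.L22.C1.isZeroScheme_base ι iU structureModule_invertible _ hz.zero_U))
  rw [hφ] at h
  exact h

theorem Zeros.props (hz : Zeros π i M t l m ι iU j j' p) (H : IsModel π i M t l m) :
    (Flat (ι ≫ π) ∧ LocallyOfFiniteType (ι ≫ π) ∧ QuasiCompact (ι ≫ π) ∧ Cyc.HasRelDim (ι ≫ π) 1) ∧
      (Flat p ∧ LocallyOfFiniteType p ∧ QuasiCompact p ∧ Cyc.HasRelDim p 1) := by
  haveI := hz.closed_ι
  haveI := hz.closed_U
  obtain ⟨⟨a1, a2, a3, a4⟩, -⟩ := H.def_props ι hz.zero_ι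
  obtain ⟨⟨b1, b2, b3, b4⟩, -⟩ := H.fun_props iU hz.zero_U
  exact ⟨⟨a2, a3, inferInstance, a4⟩, MorphismProperty.of_isPullback hz.sq' b2,
    MorphismProperty.of_isPullback hz.sq' b3,
    MorphismProperty.of_isPullback hz.sq' (inferInstanceAs (QuasiCompact (iU ≫ π))),
    Groth.L22.Cyc.hasRelDim_baseChange hz.sq' b4⟩

variable {δX : X → ℤ} {δD : D → ℤ} {δM : Mz → ℤ} {δE : E → ℤ} {k : ℤ}

theorem Zeros.deltas (hz : Zeros π i M t l m ι iU j j' p) (hg : Cyc.DeltaCompat (ι ≫ π) δM δX)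
    (hj : δE = fun e => δM (j e)) (hi : δD = fun d => δX (i d)) : Cyc.DeltaCompat p δE δD := by
  haveI := hz.closed_j
  have w : j ≫ ι ≫ π = p ≫ i := by rw [← hz.sq'.w, hz.sq.w_assoc]
  subst hj
  subst hi
  exact Groth.L22.Cyc.deltaCompat_square (ι ≫ π) j i p hg w.symm

/-- Flat pullback to the line bundle over the zero scheme is injective. -/
theorem Zeros.pullOp_injective (hz : Zeros π i M t l m ι iU j j' p) (H : IsModel π i M t l m) [Flat p]
    [LocallyOfFiniteType p] (hp1 : Cyc.HasRelDim p 1) (hE : Cyc.IsSetup E δE) (hD : Cyc.IsSetup D δD)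
    (hp : Cyc.DeltaCompat p δE δD) : Function.Injective (pullOp p hp1 hE hD hp k) := by
  haveI := hz.closed_U
  have hN := Groth.L18.Ample.isInvertible_pullback iU H.inv
  have hc := fun d : D => line_chart_baseChange (N := (Scheme.Modules.pullback iU).obj M) (s := pull iU M ⊤ l)
    (H.line_chart iU hz.zero_U) hz.sq' d
  have hN' := Groth.L18.Ample.isInvertible_pullback j' hN
  obtain ⟨Z, z, hcz, hzz⟩ := exists_zeroScheme hN' (pull j' _ ⊤ (pull iU M ⊤ l))
  obtain ⟨hiso, hreg⟩ := line_props hN' hc z hzz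
  exact pullOp_line_injective p z hp1 hE hD hp hN' hzz hreg

/-- The identity of the deformation. -/
theorem Zeros.identity (hz : Zeros π i M t l m ι iU j j' p) (H : IsModel π i M t l m) [IsClosedImmersion j]
    [Flat (ι ≫ π)] [LocallyOfFiniteType (ι ≫ π)] [Flat p] [LocallyOfFiniteType p]
    (hg1 : Cyc.HasRelDim (ι ≫ π) 1) (hp1 : Cyc.HasRelDim p 1) {L : X.Modules} (hL : PicF.IsInvertible L)
    {σ : L.presheaf.obj (Opposite.op ⊤)} (hσ : Cyc.IsZeroSchemeOf i L σ)
    (φ : (Scheme.Modules.pullback π).obj L ≅ M)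
    (hX : Cyc.IsSetup X δX) (hM : Cyc.IsSetup Mz δM) (hE : Cyc.IsSetup E δE) (hD : Cyc.IsSetup D δD)
    (hg : Cyc.DeltaCompat (ι ≫ π) δM δX) (hp : Cyc.DeltaCompat p δE δD)
    (hj : δE = fun e => δM (j e)) (hi : δD = fun d => δX (i d))
    (e : k + ((1 : ℕ) : ℤ) - 1 = k - 1 + ((1 : ℕ) : ℤ)) (z : ChowOps.CH X δX k) :
    Bivar.chCast E δE e (gysinOp j hM hj structureModule_invertible hz.zero_j (k + ((1 : ℕ) : ℤ))
        (pullOp (ι ≫ π) hg1 hM hX hg k z)) =
      pullOp p hp1 hE hD hp (k - 1) (gysinOp i hX hi hL hσ k z) := by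
  haveI := hz.closed_ι
  haveI := hz.closed_U
  haveI := hz.closed_j'
  obtain ⟨-, hπf, hπl, hπ2⟩ := H.props
  obtain ⟨-, hregι⟩ := H.def_props ι hz.zero_ι
  obtain ⟨⟨-, hUf, hUl, hU1⟩, hregU⟩ := H.fun_props iU hz.zero_U
  obtain ⟨δP, hP, hπc⟩ := Groth.L22.Cyc.exists_setup π hX
  let δU : U → ℤ := fun x => δP (iU x)
  have hU : Cyc.IsSetup U δU := Groth.L22.C1.isSetup_closedImmersion iU hP
  have hUc : Cyc.DeltaCompat (iU ≫ π) δU δX :=
    Bivar.deltaCompat_comp iU π δU δP δX (Groth.L22.C1.deltaCompat_closedImmersion iU δP) hπc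
  have hMι : δM = fun x => δP (ι x) := delta_closedImmersion ι (Groth.L22.Bundle.deltaCompat_cancel ι π hg hπc)
  have hEU : δE = fun e => δU (j' e) := by
    rw [hj, hMι]
    funext e
    show δP (ι (j e)) = δP (iU (j' e))
    rw [← Scheme.Hom.comp_apply, hz.sq.w, Scheme.Hom.comp_apply]
  let A := pullOp π (r := 1 + 1) hπ2 hP hX hπc k z
  have ea : k + ((1 + 1 : ℕ) : ℤ) - 1 = k + ((1 : ℕ) : ℤ) := by push_cast; ring
  have ha := gysinOp_pullOp_rel (r := 1) π ι hπ2 hg1 hP hX hM hπc hMι hg H.inv hz.zero_ι hregι ea z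
  have hb := gysinOp_pullOp_rel (r := 1) π iU hπ2 hU1 hP hX hU hπc rfl hUc structureModule_invertible hz.zero_U
    hregU ea z
  obtain ⟨φO, -⟩ := exists_pullO_iso ι
  have hN' := Groth.L18.Ample.isInvertible_pullback iU H.inv
  have hc := gysinOp_gysinOp ι iU j j' hz.sq hP hU hM hE hMι rfl hj hEU H.inv hz.zero_ι
    structureModule_invertible hz.zero_U structureModule_invertible hz.zero_j φO hN' (hz.zero_j' H) (Iso.refl _) A
  let eN : (Scheme.Modules.pullback (iU ≫ π)).obj L ≅ (Scheme.Modules.pullback iU).obj M :=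
    ((Scheme.Modules.pullbackComp iU π).symm.app L) ≪≫ (Scheme.Modules.pullback iU).mapIso φ
  have hd := gysinOp_pullOp_bc (iU ≫ π) i j' p hz.sq' hU1 hp1 hX hU hD hE hUc hp hi hEU hL hσ hN'
    (hz.zero_j' H) eN e z
  rw [← ha, chCast_gysinOp j hM hj, hc, ← hd, ← hb, chCast_gysinOp j' hU hEU]

end Groth.L16.Deform
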