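import Groth.Prelude.Def_W4stkchowbivarWeakCl
import Groth.Agent.L16.Deform.Exist
import Groth.Agent.L16.Deform.Identity

/-!
# Gysin compatibility for trivial normal bundles suffices
-/

set_option autoImplicit false
set_option linter.style.haveILetI false
set_option linter.unusedSectionVars false
set_option backward.isDefEq.respectTransparency false
set_option backward.isDefEq.respectTransparency.types false

universe u

open CategoryTheory CategoryTheory.Limits AlgebraicGeometry TopologicalSpace Opposite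
open Groth.L18.Frame (pull pull_smul)
open Groth.L16.BivarOps

noncomputable section

namespace Groth.L16.Deform



/-- A base change of the zero schemes of a model. -/
theorem Zeros.baseChange {Y1 X1 Dy Dx P PT Mz U E : Scheme.{u}} {π : P ⟶ Y1} {πT : PT ⟶ X1} {f1 : X1 ⟶ Y1}
    {prP : PT ⟶ P} {i : Dy ⟶ Y1} {jx : Dx ⟶ X1} {fD : Dx ⟶ Dy} {M : P.Modules} {t : Γ(P, ⊤)} {l m : Γ(M, ⊤)}
    (H : IsModel π i M t l m) {ι : Mz ⟶ P} {iU : U ⟶ P} {j : E ⟶ Mz} {j' : E ⟶ U} {p : E ⟶ Dy}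
    (hz : Zeros π i M t l m ι iU j j' p) (sqT : IsPullback prP πT π f1) (sqD : IsPullback fD jx i f1) :
    ∃ (Mz' U' E' : Scheme.{u}) (ι' : Mz' ⟶ PT) (iU' : U' ⟶ PT) (jM : E' ⟶ Mz') (jU : E' ⟶ U') (p' : E' ⟶ Dx)
      (qM : Mz' ⟶ Mz) (qE : E' ⟶ E),
      Zeros πT jx ((Scheme.Modules.pullback prP).obj M) (prP.appTop t) (pull prP M ⊤ l) (pull prP M ⊤ m)
        ι' iU' jM jU p' ∧
      IsPullback qM (ι' ≫ πT) (ι ≫ π) f1 ∧ IsPullback qE p' p fD ∧ IsPullback jM qE qM j := by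
  haveI := hz.closed_ι
  haveI := hz.closed_U
  haveI := hz.closed_j
  let ι' := pullback.fst prP ι
  let qM := pullback.snd prP ι
  let iU' := pullback.fst prP iU
  let qU := pullback.snd prP iU
  let jM := pullback.fst qM j
  let qE := pullback.snd qM j
  have sM : IsPullback ι' qM prP ι := IsPullback.of_hasPullback prP ι
  have sU : IsPullback iU' qU prP iU := IsPullback.of_hasPullback prP iU
  have sE : IsPullback jM qE qM j := IsPullback.of_hasPullback qM j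
  let jU := sU.lift (jM ≫ ι') (qE ≫ j') (by
    rw [Category.assoc, Category.assoc, sM.w, sE.w_assoc, hz.sq.w])
  have hU1 : jU ≫ iU' = jM ≫ ι' := sU.lift_fst _ _ _
  have hU2 : jU ≫ qU = qE ≫ j' := sU.lift_snd _ _ _
  have sqMU : IsPullback jM jU ι' iU' := by
    refine IsPullback.of_bot ?_ hU1.symm sU.flip.flip
    rw [hU2, sM.w]
    exact sE.paste_vert hz.sq
  have sqU : IsPullback jU qE qU j' := by
    refine IsPullback.of_right ?_ hU2 sU
    rw [hU1, ← hz.sq.w]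
    exact sE.paste_horiz sM
  have hbot : IsPullback jU (qE ≫ p) ((iU' ≫ πT) ≫ f1) i := by
    have h := sqU.paste_vert hz.sq'
    rwa [show qU ≫ iU ≫ π = (iU' ≫ πT) ≫ f1 by rw [← sU.w_assoc, sqT.w, Category.assoc]] at h
  let p' := sqD.lift (qE ≫ p) (jU ≫ iU' ≫ πT) (by rw [← hbot.w]; simp only [Category.assoc])
  have hp1 : p' ≫ fD = qE ≫ p := sqD.lift_fst _ _ _
  have hp2 : p' ≫ jx = jU ≫ iU' ≫ πT := sqD.lift_snd _ _ _
  have sqP : IsPullback jU p' (iU' ≫ πT) jx := by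
    refine IsPullback.of_bot ?_ hp2.symm sqD.flip
    rw [hp1]
    exact hbot
  have sqMY : IsPullback qM (ι' ≫ πT) (ι ≫ π) f1 := sM.flip.paste_vert sqT
  have sqEp : IsPullback qE p' p fD := by
    refine IsPullback.of_bot ?_ hp1.symm sqD
    rw [hp2, ← hz.sq'.w, ← Category.assoc jU, hU1, ← hz.sq.w_assoc, Category.assoc]
    exact sE.flip.paste_vert sqMY
  refine ⟨_, _, _, ι', iU', jM, jU, p', qM, qE,
    ⟨inferInstance, inferInstance, inferInstance, ?_, ?_, ?_, sqMU, sqP⟩, sqMY, sqEp, sE⟩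
  · exact MorphismProperty.of_isPullback sqMU (inferInstanceAs (IsClosedImmersion ι'))
  · have h := Groth.L22.C1.isZeroScheme_base prP ι H.inv _ hz.zero_ι
    have h2 : pull prP M ⊤ (defSec M t l m) =
        defSec _ (prP.appTop t) (pull prP M ⊤ l) (pull prP M ⊤ m) := by
      show pull prP M ⊤ (defSec M t l m) = prP.app ⊤ t • pull prP M ⊤ l + pull prP M ⊤ m
      rw [← pull_smul]
      exact map_add (((Scheme.Modules.pullbackPushforwardAdjunction prP).unit.app M).app ⊤).hom _ _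
    rw [h2] at h
    exact h
  · obtain ⟨φ, hφ⟩ := exists_pullO_iso prP
    have h := isZeroScheme_iso φ (Groth.L18.Ample.isInvertible_pullback prP structureModule_invertible)
      structureModule_invertible (Groth.L22.C1.isZeroScheme_base prP iU structureModule_invertible _ hz.zero_U)
    rw [hφ] at h
    exact h

variable {X Y : Scheme.{u}} {δX : X → ℤ} {δY : Y → ℤ} {f : X ⟶ Y} {q : ℤ}

theorem op_chCast (c : Bivar.WeakCl q f δX δY) (s : Bivar.Sq f δX δY) {a b : ℤ} (e : a = b)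
    (z : ChowOps.CH s.Y' s.δY' a) :
    c.op s b (Bivar.chCast s.Y' s.δY' e z) = Bivar.chCast s.X' s.δX' (congrArg (· - q) e) (c.op s a z) := by
  subst e; rfl

theorem chCast_nest {X : Scheme.{u}} {δ : X → ℤ} {a b₁ b₂ b₃ d₁ n : ℤ} (h₁ : a = b₁) (h₂ : b₁ = b₂) (h₂' : b₂ = b₃)
    (h₃ : b₃ = n)
    (h₄ : a = d₁) (h₅ : d₁ = n) (w : ChowOps.CH X δ a) :
    Bivar.chCast X δ h₃ (Bivar.chCast X δ h₂' (Bivar.chCast X δ h₂ (Bivar.chCast X δ h₁ w))) =
      Bivar.chCast X δ h₅ (Bivar.chCast X δ h₄ w) := by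
  subst h₁ h₂ h₂' h₃ h₄
  rfl

/-- Gysin compatibility for all triples. -/
theorem gysinOK (hX : Cyc.IsSetup X δX) (hY : Cyc.IsSetup Y δY) (c : Bivar.WeakCl q f δX δY)
    (s t : Bivar.Sq f δX δY) (i : t.Y' ⟶ s.Y') [IsClosedImmersion i] (j : t.X' ⟶ s.X') [IsClosedImmersion j]
    (w₁ : i ≫ s.g = t.g) (w₂ : j ≫ s.f' = t.f' ≫ i) (w₃ : j ≫ s.g' = t.g')
    (L : s.Y'.Modules) (hL : PicF.IsInvertible L) (σ : L.presheaf.obj (Opposite.op ⊤))
    (hσ : Cyc.IsZeroSchemeOf i L σ)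
    (τ : ((Scheme.Modules.pullback s.f').obj L).presheaf.obj (Opposite.op ⊤))
    (hτ : Cyc.IsZeroSchemeOf j ((Scheme.Modules.pullback s.f').obj L) τ) (k : ℤ) :
    Bivar.GysinOK s.δY' t.δY' s.δX' t.δX' i L σ j ((Scheme.Modules.pullback s.f').obj L) τ
      (c.op s k) (c.op t (k - 1)) := by
  have hS := setupY s hY
  have hS' := setupX s hX
  have hT := setupY t hY
  have hT' := setupX t hX
  have hi := delta_closedImmersion i (compat_h w₁)
  have hj := delta_closedImmersion j (compat_h' w₃)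
  have hL' := Groth.L18.Ample.isInvertible_pullback s.f' hL
  have sqD : IsPullback t.f' j i s.f' := sq_of_morphism w₁ w₂ w₃
  -- the model and its base change
  obtain ⟨P, π, t0, l, H⟩ := exists_model i hL hσ
  let prP := pullback.fst π s.f'
  let πT := pullback.snd π s.f'
  have sqT : IsPullback prP πT π s.f' := IsPullback.of_hasPullback π s.f'
  have H' := H.baseChange sqT sqD
  obtain ⟨Mz, U, E, ι, iU, jE, jE', p, hz⟩ := H.exists_zeros
  obtain ⟨Mz', U', E', ι', iU', jM, jU, p', qM, qE, hz', sqMY, sqEp, sE⟩ := hz.baseChange H sqT sqD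
  haveI := hz.closed_ι
  haveI := hz.closed_j
  haveI := hz'.closed_ι
  haveI := hz'.closed_j
  obtain ⟨⟨hgf, hgl, -, hg1⟩, hpf, hpl, -, hp1⟩ := hz.props H
  obtain ⟨⟨hgf', hgl', -, hg1'⟩, hpf', hpl', -, hp1'⟩ := hz'.props H'
  obtain ⟨δM, hM, hgc⟩ := Groth.L22.Cyc.exists_setup (ι ≫ π) hS
  obtain ⟨δM', hM', hgc'⟩ := Groth.L22.Cyc.exists_setup (ι' ≫ πT) hS'
  let δE : E → ℤ := fun e => δM (jE e)
  let δE' : E' → ℤ := fun e => δM' (jM e)
  have hE : Cyc.IsSetup E δE := Groth.L22.C1.isSetup_closedImmersion jE hM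
  have hE' : Cyc.IsSetup E' δE' := Groth.L22.C1.isSetup_closedImmersion jM hM'
  have hpc : Cyc.DeltaCompat p δE t.δY' := hz.deltas hgc rfl hi
  have hpc' : Cyc.DeltaCompat p' δE' t.δX' := hz'.deltas hgc' rfl hj
  let sM : Bivar.Sq f δX δY := s.paste
    { Y' := Mz, X' := Mz', g := ι ≫ π, f' := qM, g' := ι' ≫ πT, isPullback := sqMY, lft := hgl,
      δY' := δM, δX' := δM', compatY := hgc, compatX := hgc' }
  let tE : Bivar.Sq f δX δY := t.paste
    { Y' := E, X' := E', g := p, f' := qE, g' := p', isPullback := sqEp, lft := hpl,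
      δY' := δE, δX' := δE', compatY := hpc, compatX := hpc' }
  have v₁ : jE ≫ sM.g = tE.g := by
    show jE ≫ (ι ≫ π) ≫ s.g = p ≫ t.g
    simp only [Category.assoc]
    rw [hz.sq.w_assoc, reassoc_of% hz.sq'.w, w₁]
  have v₂ : jM ≫ sM.f' = tE.f' ≫ jE := sE.w
  have v₃ : jM ≫ sM.g' = tE.g' := by
    show jM ≫ (ι' ≫ πT) ≫ s.g' = p' ≫ t.g'
    simp only [Category.assoc]
    rw [hz'.sq.w_assoc, reassoc_of% hz'.sq'.w, w₃]
  -- compatibility with the trivial triple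
  obtain ⟨φj, -⟩ := exists_pullO_iso jE
  have hqO := Groth.L18.Ample.isInvertible_pullback qM (structureModule_invertible (X := Mz))
  have hτM := Groth.L22.P1Zero.isZeroSchemeOf_iso jM (pullback.fst qM jE) sE.isoPullback.hom
    sE.isoPullback_hom_fst (Groth.L22.C1.isZeroScheme_base qM jE structureModule_invertible _ hz.zero_j)
  have hgys : Bivar.GysinOK δM δE δM' δE' jE (Coh.structureModule Mz) _ jM _ _
      (c.op sM (k + ((1 : ℕ) : ℤ))) (c.op tE (k + ((1 : ℕ) : ℤ) - 1)) :=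
    c.gysinTriv sM tE jE jM v₁ v₂ v₃ (Coh.structureModule Mz) structureModule_invertible ⟨φj⟩ _ hz.zero_j _ hτM _
  have hpullg : Bivar.PullOK s.δY' s.δX' δM δM' (ι ≫ π) (ι' ≫ πT) ((1 : ℕ) : ℤ)
      (c.op s k) (c.op sM (k + ((1 : ℕ) : ℤ))) :=
    c.pull s sM (ι ≫ π) (ι' ≫ πT) 1 hg1 hg1' rfl sqMY.w.symm rfl k
  have hpullp : Bivar.PullOK t.δY' t.δX' δE δE' p p' ((1 : ℕ) : ℤ)
      (c.op t (k - 1)) (c.op tE (k - 1 + ((1 : ℕ) : ℤ))) :=
    c.pull t tE p p' 1 hp1 hp1' rfl sqEp.w.symm rfl (k - 1)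
  refine gysinOK_of_apply hS hi hL hσ hS' hj hL' hτ (by ring : k - q - 1 = k - 1 - q) fun z => ?_
  refine hz'.pullOp_injective H' hp1' hE' hT' hpc' ?_
  have e₁ : k + ((1 : ℕ) : ℤ) - 1 = k - 1 + ((1 : ℕ) : ℤ) := by ring
  have e₂ : k - q + ((1 : ℕ) : ℤ) - 1 = k - q - 1 + ((1 : ℕ) : ℤ) := by ring
  have hdown := hz.identity H hg1 hp1 hL hσ (Iso.refl _) hS hM hE hT hgc hpc rfl hi e₁ z
  have hup := hz'.identity H' hg1' hp1' hL' hτ
    (asIso (squareMap (f := πT) (g := s.f') (f' := prP) (g' := π) sqT.w.symm L)) hS' hM' hE' hT' hgc' hpc' rfl hj e₂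
    (c.op s k z)
  obtain ⟨φM, -⟩ := exists_pullO_iso qM
  have hA := pull_apply (h := p) (h' := p') hp1 hp1' hE hT hpc hE' hT' hpc' hpullp
    (by ring : k - 1 - q + ((1 : ℕ) : ℤ) = k - 1 + ((1 : ℕ) : ℤ) - q) (gysinOp i hS hi hL hσ k z)
  have hB := gysin_apply hM rfl structureModule_invertible hz.zero_j hM' rfl hqO hτM hgys
    (by ring : k + ((1 : ℕ) : ℤ) - q - 1 = k + ((1 : ℕ) : ℤ) - 1 - q) (pullOp (ι ≫ π) hg1 hM hS hgc k z)
  have hC := pull_apply (h := ι ≫ π) (h' := ι' ≫ πT) hg1 hg1' hM hS hgc hM' hS' hgc' hpullg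
    (by ring : k - q + ((1 : ℕ) : ℤ) = k + ((1 : ℕ) : ℤ) - q) z
  have hA' : pullOp p' hp1' hE' hT' hpc' (k - 1 - q) (c.op t (k - 1) (gysinOp i hS hi hL hσ k z)) =
      Bivar.chCast E' δE' (by ring)
        (c.op tE (k - 1 + ((1 : ℕ) : ℤ)) (pullOp p hp1 hE hT hpc (k - 1) (gysinOp i hS hi hL hσ k z))) := by
    rw [hA, chCast_trans]
    rfl
  rw [hA', chCast_pullOp, ← hdown, op_chCast c tE, hB, hC,
    gysinOp_indep jM hM' rfl φM hqO structureModule_invertible hτM hz'.zero_j, chCast_gysinOp, ← hup]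
  exact chCast_nest (X := E') (δ := δE') _ _ _ _ _ _ _

/-- A weak class is a bivariant class. -/
def toCl (hX : Cyc.IsSetup X δX) (hY : Cyc.IsSetup Y δY) (c : Bivar.WeakCl q f δX δY) :
    Bivar.Cl q f δX δY where
  op := c.op
  push := c.push
  pull := c.pull
  gysin := gysinOK hX hY c

end Groth.L16.Deform
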