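import Groth.Agent.L16.Deform.Model
import Groth.Agent.L22.Cyc.PushSheaf
import Groth.Agent.L22.Chern.SplitTower

/-!
# Properties of models
-/

set_option autoImplicit false
set_option linter.style.haveILetI false
set_option backward.isDefEq.respectTransparency false
set_option backward.isDefEq.respectTransparency.types false

universe u

open CategoryTheory CategoryTheory.Limits AlgebraicGeometry TopologicalSpace Opposite
open Groth.L18.Frame (rs ro rs_rs rs_smul rs_self IsFrame pull pull_rs pull_smul)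
open Groth.L19.ProjBdl (one1 isFrame_one1)

noncomputable section

namespace Groth.L16.Deform

variable {X P D T PT U Z E : Scheme.{u}}

theorem structureModule_invertible : PicF.IsInvertible (Coh.structureModule X) :=
  Groth.L22.Bundle.isInvertible_of_one Groth.L19.ProjBdl.isFinLocFreeOfRank_one_structureModule

/-- A section pulls back to zero on its zero scheme. -/
theorem pull_eq_zero {L : X.Modules} (_hL : PicF.IsInvertible L) {σ : Γ(L, ⊤)} (i : D ⟶ X) [IsClosedImmersion i]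
    (hi : Cyc.IsZeroSchemeOf i L σ) : pull i L ⊤ σ = 0 := by
  refine TopCat.Presheaf.section_ext
    (⟨((Scheme.Modules.pullback i).obj L).presheaf, ((Scheme.Modules.pullback i).obj L).isSheaf⟩ :
      TopCat.Sheaf AddCommGrpCat.{u} D.toTopCat) _ _ _ fun d hd => ?_
  obtain ⟨t, f, -, hf, hk⟩ := hi.2 d
  have h0 : Groth.L22.Cyc.fibMap i d rfl f = 0 := by
    show i.stalkMap d ((X.presheaf.stalkSpecializes (specializes_of_eq rfl)) f) = 0
    rw [TopCat.Presheaf.stalkSpecializes_refl]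
    exact (hk.ge (Ideal.mem_span_singleton_self f) : _)
  have h1 := Groth.L22.C1.pm_germ i L d rfl (V := ⊤) trivial σ
  rw [hf, Groth.L22.C1.pm_smul, h0, zero_smul] at h1
  exact h1.symm.trans (map_zero _).symm

theorem pull_one_frame (h : T ⟶ X) :
    IsFrame ((Scheme.Modules.pullback h).obj (Coh.structureModule X)) ⊤
      (pull h (Coh.structureModule X) ⊤ (one1 X ⊤)) := (isFrame_one1 ⊤).pullback h _

theorem pull_function (h : T ⟶ X) (t : Γ(X, ⊤)) :
    pull h (Coh.structureModule X) ⊤ (show Γ(Coh.structureModule X, ⊤) from t) =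
      h.app ⊤ t • pull h (Coh.structureModule X) ⊤ (one1 X ⊤) := by
  refine (congrArg _ (Groth.L19.ProjBdl.smul_one1 t).symm).trans ?_
  exact pull_smul h _ _ _

/-- A function vanishes on its zero scheme. -/
theorem appTop_eq_zero (i : D ⟶ X) [IsClosedImmersion i] (t : Γ(X, ⊤))
    (hi : Cyc.IsZeroSchemeOf i (Coh.structureModule X) (show Γ(Coh.structureModule X, ⊤) from t)) :
    i.appTop t = 0 := by
  have h := (pull_function i t).symm.trans (pull_eq_zero structureModule_invertible i hi)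
  refine (pull_one_frame i).inj le_rfl (a := i.app ⊤ t) (b := (0 : Γ(D, i ⁻¹ᵁ ⊤))) ?_
  rw [rs_self, zero_smul]
  exact h

variable {π : P ⟶ X}

theorem exists_chart_baseChange {n : ℕ} {h : T ⟶ X} {prP : PT ⟶ P} {πT : PT ⟶ T}
    (sq : IsPullback prP πT π h) (C : Chart π n) (x : T) (hx : h x ∈ Set.range C.v) :
    ∃ (C' : Chart πT n) (φ : C.R →+* C'.R), x ∈ Set.range C'.v ∧
      C'.j ≫ prP = Spec.map (CommRingCat.ofHom (MvPolynomial.map φ)) ≫ C.j := by
  obtain ⟨W, hW, hxW, hWle⟩ := exists_isAffineOpen_mem_and_subset (x := x) (U := h ⁻¹ᵁ C.v.opensRange) hx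
  have hr : Set.range (hW.fromSpec ≫ h) ⊆ Set.range C.v := by
    rintro _ ⟨y, rfl⟩
    exact hWle (hW.range_fromSpec.le ⟨y, rfl⟩)
  let φ : C.R ⟶ Γ(T, W) := Spec.preimage (IsOpenImmersion.lift C.v (hW.fromSpec ≫ h) hr)
  have hφ : Spec.map φ ≫ C.v = hW.fromSpec ≫ h := by
    rw [Spec.map_preimage, IsOpenImmersion.lift_fac]
  letI : Algebra C.R Γ(T, W) := φ.hom.toAlgebra
  letI : Algebra (MvPolynomial (Fin n) C.R) (MvPolynomial (Fin n) Γ(T, W)) := MvPolynomial.algebraMvPolynomial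
  have po := CommRingCat.isPushout_of_isPushout C.R Γ(T, W) (MvPolynomial (Fin n) C.R)
    (MvPolynomial (Fin n) Γ(T, W))
  have pb : IsPullback (Spec.map (CommRingCat.ofHom (MvPolynomial.map φ.hom))) (affMap Γ(T, W) n)
      (affMap C.R n) (Spec.map φ) := (isPullback_SpecMap_of_isPushout _ _ _ _ po).flip
  have outer := pb.paste_horiz C.sq
  rw [hφ] at outer
  let j' : Spec (CommRingCat.of (MvPolynomial (Fin n) Γ(T, W))) ⟶ PT :=
    sq.lift (Spec.map (CommRingCat.ofHom (MvPolynomial.map φ.hom)) ≫ C.j) (affMap Γ(T, W) n ≫ hW.fromSpec)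
      (by rw [outer.w, Category.assoc])
  have h1 : j' ≫ prP = Spec.map (CommRingCat.ofHom (MvPolynomial.map φ.hom)) ≫ C.j := sq.lift_fst _ _ _
  have h2 : j' ≫ πT = affMap Γ(T, W) n ≫ hW.fromSpec := sq.lift_snd _ _ _
  refine ⟨⟨Γ(T, W), hW.fromSpec, j', IsPullback.of_right ?_ h2 sq⟩, φ.hom, hW.range_fromSpec.ge hxW, h1⟩
  rw [h1]
  exact outer

/-- An equation in a chart pulls back. -/
theorem Chart.EqIn.map {n : ℕ} {C : Chart π n} {M : P.Modules} {s : Γ(M, ⊤)} {f : MvPolynomial (Fin n) C.R}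
    (hf : C.EqIn s f) {n' : ℕ} {πT : PT ⟶ T} {prP : PT ⟶ P} (C' : Chart πT n')
    (φ : MvPolynomial (Fin n) C.R →+* MvPolynomial (Fin n') C'.R)
    (hj : C'.j ≫ prP = Spec.map (CommRingCat.ofHom φ) ≫ C.j) : C'.EqIn (pull prP M ⊤ s) (φ f) := by
  obtain ⟨e, he, hs⟩ := hf
  let mm := Spec.map (CommRingCat.ofHom φ)
  let Θ := squareMap (f := mm) (g := C.j) (f' := C'.j) (g' := prP) hj.symm M
  refine ⟨Θ.app ⊤ (pull mm _ ⊤ e), isFrame_iso_app Θ (he.pullback mm _), ?_⟩
  rw [← squareMap_pull hj.symm M s, hs, pull_smul, Scheme.Modules.Hom.app_smul]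
  congr 1
  exact appTop_spec_map _ _

/-- Killing the first variable. -/
def killZero (A : Type u) [CommRing A] : MvPolynomial (Fin 2) A →ₐ[A] MvPolynomial (Fin 1) A :=
  MvPolynomial.aeval ![0, MvPolynomial.X 0]

/-- The first variable cuts out the affine line. -/
def quotX0 (A : Type u) [CommRing A] :
    (MvPolynomial (Fin 2) A ⧸ Ideal.span {(MvPolynomial.X 0 : MvPolynomial (Fin 2) A)}) ≃ₐ[A]
      MvPolynomial (Fin 1) A :=
  AlgEquiv.ofAlgHom
    (Ideal.Quotient.liftₐ _ (killZero A) fun a ha => by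
      obtain ⟨b, rfl⟩ := Ideal.mem_span_singleton'.1 ha
      simp [killZero])
    (MvPolynomial.aeval fun _ => Ideal.Quotient.mk _ (MvPolynomial.X 1))
    (by
      refine MvPolynomial.algHom_ext fun i => ?_
      rw [AlgHom.comp_apply, MvPolynomial.aeval_X]
      rw [Ideal.Quotient.liftₐ_apply, Ideal.Quotient.lift_mk]
      simp [killZero, Fin.fin_one_eq_zero i])
    (by
      refine Ideal.Quotient.algHom_ext _ (MvPolynomial.algHom_ext fun i => ?_)
      rw [AlgHom.comp_apply, AlgHom.comp_apply, Ideal.Quotient.mkₐ_eq_mk, Ideal.Quotient.liftₐ_apply,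
        Ideal.Quotient.lift_mk]
      fin_cases i
      · simp [killZero]
      · simp [killZero])

/-- The projection to the zero scheme of the first variable. -/
abbrev quotHom (A : Type u) [CommRing A] : MvPolynomial (Fin 2) A →+* MvPolynomial (Fin 1) A :=
  (killZero A).toRingHom

theorem quotMap_X0 (A : Type u) [CommRing A] :
    Spec.map (quotX0 A).toRingEquiv.toCommRingCatIso.hom ≫ quotMap (MvPolynomial.X 0 : MvPolynomial (Fin 2) A) =
      affMap A 1 := by
  rw [← Spec.map_comp]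
  exact congrArg Spec.map (CommRingCat.hom_ext (RingHom.ext fun a => (quotX0 A).commutes a))

theorem quotMap_X0_props (A : Type u) [CommRing A] :
    Flat (quotMap (MvPolynomial.X 0 : MvPolynomial (Fin 2) A)) ∧
      Cyc.HasRelDim (quotMap (MvPolynomial.X 0 : MvPolynomial (Fin 2) A)) 1 := by
  let ψ := Spec.map (quotX0 A).toRingEquiv.toCommRingCatIso.hom
  have e : quotMap (MvPolynomial.X 0 : MvPolynomial (Fin 2) A) = inv ψ ≫ affMap A 1 :=
    (IsIso.eq_inv_comp ψ).2 (quotMap_X0 A)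
  haveI : Flat (affMap A 1) :=
    (HasRingHomProperty.Spec_iff (P := @Flat)).2 (RingHom.flat_algebraMap_iff.2 inferInstance)
  haveI : LocallyOfFiniteType (quotMap (MvPolynomial.X 0 : MvPolynomial (Fin 2) A)) :=
    (HasRingHomProperty.Spec_iff (P := @LocallyOfFiniteType)).2
      (RingHom.finiteType_algebraMap.2
        (Algebra.FiniteType.of_surjective (Ideal.Quotient.mkₐ _ _) Ideal.Quotient.mk_surjective))
  refine ⟨e ▸ inferInstance, hasRelDim_of_charts fun x => ⟨_, _, 𝟙 _, inferInstance, ψ, _, ⟨x, rfl⟩,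
    IsPullback.of_horiz_isIso ⟨(quotMap_X0 A).trans (Category.comp_id _).symm⟩, hasRelDim_affMap A 1⟩⟩

theorem mul_X_injective {A : Type u} [CommRing A] {n : ℕ} (i : Fin n) :
    Function.Injective fun b : MvPolynomial (Fin n) A => MvPolynomial.X i * b := by
  have h := smul_injective_monomial_add (A := A) (Finsupp.single i 1) (by simp) 0
  simpa [MvPolynomial.X] using h

variable {i : D ⟶ X} {M : P.Modules} {t : Γ(P, ⊤)} {l m : Γ(M, ⊤)}

/-- The function of a model as a section. -/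
abbrev funSec (t : Γ(P, ⊤)) : Γ(Coh.structureModule P, ⊤) := t

/-- The deformation section of a model. -/
abbrev defSec (M : P.Modules) (t : Γ(P, ⊤)) (l m : Γ(M, ⊤)) : Γ(M, ⊤) := t • l + m

theorem IsModel.props (H : IsModel π i M t l m) :
    IsAffineHom π ∧ Flat π ∧ LocallyOfFiniteType π ∧ Cyc.HasRelDim π 2 :=
  chart_props fun x => (H.charts x).elim fun C h => ⟨C, h.elim fun _ h => h.elim fun _ h => h.1⟩

theorem IsModel.eqIn_fun (H : IsModel π i M t l m) (x : X) :
    ∃ C : Chart π 2, x ∈ Set.range C.v ∧ C.EqIn (funSec t) (MvPolynomial.X 0) := by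
  obtain ⟨C, c, e, hx, -, ht, -, -⟩ := H.charts x
  exact ⟨C, hx, _, pull_one_frame C.j, (pull_function C.j t).trans (congrArg (· • _) ht)⟩

theorem IsModel.eqIn_def (H : IsModel π i M t l m) (x : X) :
    ∃ (C : Chart π 2) (c : C.R), x ∈ Set.range C.v ∧ C.EqIn (defSec M t l m) (eqn c) := by
  obtain ⟨C, c, e, hx, he, ht, hl, hm⟩ := H.charts x
  refine ⟨C, c, hx, e, he, ?_⟩
  have h1 : pull C.j M ⊤ (defSec M t l m) = C.j.app ⊤ t • pull C.j M ⊤ l + pull C.j M ⊤ m := by
    rw [← pull_smul]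
    exact map_add (((Scheme.Modules.pullbackPushforwardAdjunction C.j).unit.app M).app ⊤).hom _ _
  have ht' : C.j.app ⊤ t = _ := ht
  rw [h1, ht', hl, hm, eqn_eq, map_add, map_mul, add_smul, mul_smul]

theorem IsModel.def_props (H : IsModel π i M t l m) (ι : Z ⟶ P) [IsClosedImmersion ι]
    (hι : Cyc.IsZeroSchemeOf ι M (defSec M t l m)) :
    (IsAffineHom (ι ≫ π) ∧ Flat (ι ≫ π) ∧ LocallyOfFiniteType (ι ≫ π) ∧ Cyc.HasRelDim (ι ≫ π) 1) ∧
      ∀ z : P, Function.Injective fun a : P.presheaf.stalk z =>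
        a • (M.presheaf.germ ⊤ z trivial) (defSec M t l m) := by
  refine ⟨zeroScheme_props (π := π) (n := 2) H.inv ι hι fun x => ?_, injective_germ_of_charts (π := π) (n := 2) H.inv fun x => ?_⟩
  · obtain ⟨C, c, hx, hf⟩ := H.eqIn_def x
    exact ⟨C, eqn c, hx, hf, flat_hypMap c, hasRelDim_hypMap c⟩
  · obtain ⟨C, c, hx, hf⟩ := H.eqIn_def x
    exact ⟨C, eqn c, hx, hf, smul_injective_monomial_add _ exp_ne_zero c⟩

theorem IsModel.fun_props (H : IsModel π i M t l m) (ι : U ⟶ P) [IsClosedImmersion ι]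
    (hι : Cyc.IsZeroSchemeOf ι (Coh.structureModule P) (funSec t)) :
    (IsAffineHom (ι ≫ π) ∧ Flat (ι ≫ π) ∧ LocallyOfFiniteType (ι ≫ π) ∧ Cyc.HasRelDim (ι ≫ π) 1) ∧
      ∀ z : P, Function.Injective fun a : P.presheaf.stalk z =>
        a • ((Coh.structureModule P).presheaf.germ ⊤ z trivial) (funSec t) := by
  refine ⟨zeroScheme_props (π := π) (n := 2) structureModule_invertible ι hι fun x => ?_,
    injective_germ_of_charts (π := π) (n := 2) structureModule_invertible fun x => ?_⟩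
  · obtain ⟨C, hx, hf⟩ := H.eqIn_fun x
    exact ⟨C, _, hx, hf, quotMap_X0_props C.R⟩
  · obtain ⟨C, hx, hf⟩ := H.eqIn_fun x
    exact ⟨C, _, hx, hf, mul_X_injective 0⟩

theorem IsModel.line_chart (H : IsModel π i M t l m) (ι : U ⟶ P) [IsClosedImmersion ι]
    (hι : Cyc.IsZeroSchemeOf ι (Coh.structureModule P) (funSec t)) (x : X) :
    ∃ C : Chart (ι ≫ π) 1, x ∈ Set.range C.v ∧ C.EqIn (pull ι M ⊤ l) (MvPolynomial.X 0) := by
  obtain ⟨C, c, e, hx, he, ht, hl, -⟩ := H.charts x
  obtain ⟨q, hq⟩ := exists_chart_zeroScheme ι structureModule_invertible hι C.j (pull_one_frame C.j)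
    (MvPolynomial.X 0) ((pull_function C.j t).trans (congrArg (· • _) ht))
  let ψ := Spec.map (quotX0 C.R).toRingEquiv.toCommRingCatIso.hom
  let mk := Spec.map (CommRingCat.ofHom
    (Ideal.Quotient.mk (Ideal.span {(MvPolynomial.X 0 : MvPolynomial (Fin 2) C.R)})))
  have h1 : IsPullback q (quotMap (MvPolynomial.X 0 : MvPolynomial (Fin 2) C.R)) (ι ≫ π) C.v := by
    rw [show quotMap (MvPolynomial.X 0 : MvPolynomial (Fin 2) C.R) = mk ≫ affMap C.R 2 by
      rw [← Spec.map_comp]; rfl]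
    exact hq.flip.paste_vert C.sq
  have h2 : IsPullback (ψ ≫ q) (affMap C.R 1) (ι ≫ π) C.v := by
    have h0 : IsPullback ψ (affMap C.R 1) (quotMap (MvPolynomial.X 0 : MvPolynomial (Fin 2) C.R)) (𝟙 _) :=
      IsPullback.of_horiz_isIso ⟨(quotMap_X0 C.R).trans (Category.comp_id _).symm⟩
    have h3 := h0.paste_horiz h1
    rwa [Category.id_comp] at h3
  let C' : Chart (ι ≫ π) 1 := ⟨C.R, C.v, ψ ≫ q, h2⟩
  have hkill : Spec.map (CommRingCat.ofHom (quotHom C.R)) = ψ ≫ mk := by
    rw [← Spec.map_comp]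
    exact congrArg Spec.map (CommRingCat.hom_ext (RingHom.ext fun a => rfl))
  refine ⟨C', hx, ?_⟩
  have hj : C'.j ≫ ι = Spec.map (CommRingCat.ofHom (quotHom C.R)) ≫ C.j := by
    rw [hkill]
    show (ψ ≫ q) ≫ ι = (ψ ≫ mk) ≫ C.j
    rw [Category.assoc, Category.assoc]
    exact congrArg (ψ ≫ ·) hq.w.symm
  have hf : C.EqIn l (MvPolynomial.X 1) := ⟨e, he, hl⟩
  have h4 := hf.map C' (quotHom C.R) hj
  have h5 : quotHom C.R (MvPolynomial.X 1) = (MvPolynomial.X 0 : MvPolynomial (Fin 1) C.R) := by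
    simp [killZero]
  rwa [h5] at h4

theorem quotMap_X_iso (A : Type u) [CommRing A] :
    IsIso (quotMap (MvPolynomial.X 0 : MvPolynomial (Fin 1) A)) := by
  let I := Ideal.span {(MvPolynomial.X 0 : MvPolynomial (Fin 1) A)}
  let g : (MvPolynomial (Fin 1) A ⧸ I) →+* A := Ideal.Quotient.lift I MvPolynomial.constantCoeff fun a ha => by
    obtain ⟨b, rfl⟩ := Ideal.mem_span_singleton'.1 ha
    simp
  have h1 : g.comp (algebraMap A _) = RingHom.id A := RingHom.ext fun a => by
    rw [RingHom.comp_apply, ← Ideal.Quotient.mk_algebraMap, MvPolynomial.algebraMap_eq, RingHom.id_apply]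
    exact (Ideal.Quotient.lift_mk _ _ _).trans (MvPolynomial.constantCoeff_C _ _)
  have h2 : (algebraMap A (MvPolynomial (Fin 1) A ⧸ I)).comp g = RingHom.id _ := by
    refine Ideal.Quotient.ringHom_ext (MvPolynomial.ringHom_ext (fun a => ?_) fun i => ?_)
    · show algebraMap A _ (Ideal.Quotient.lift I _ _ (Ideal.Quotient.mk I (MvPolynomial.C a))) =
        Ideal.Quotient.mk I (MvPolynomial.C a)
      rw [Ideal.Quotient.lift_mk, MvPolynomial.constantCoeff_C]
      rfl
    · show algebraMap A _ (Ideal.Quotient.lift I _ _ (Ideal.Quotient.mk I (MvPolynomial.X i))) =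
        Ideal.Quotient.mk I (MvPolynomial.X i)
      rw [Ideal.Quotient.lift_mk, MvPolynomial.constantCoeff_X, map_zero, Fin.fin_one_eq_zero i]
      exact (Ideal.Quotient.eq_zero_iff_mem.2 (Ideal.mem_span_singleton_self _)).symm
  refine ⟨Spec.map (CommRingCat.ofHom g), ?_, ?_⟩
  · rw [← Spec.map_comp, ← Spec.map_id]
    exact congrArg Spec.map (CommRingCat.hom_ext h2)
  · rw [← Spec.map_comp, ← Spec.map_id]
    exact congrArg Spec.map (CommRingCat.hom_ext h1)

/-- A line bundle with a coordinate: its zero scheme is a section, regularly embedded. -/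
theorem line_props {g : P ⟶ X} {N : P.Modules} (hN : PicF.IsInvertible N) {s : Γ(N, ⊤)}
    (h : ∀ x : X, ∃ C : Chart g 1, x ∈ Set.range C.v ∧ C.EqIn s (MvPolynomial.X 0)) (z : Z ⟶ P)
    [IsClosedImmersion z] (hz : Cyc.IsZeroSchemeOf z N s) :
    IsIso (z ≫ g) ∧
      ∀ y : P, Function.Injective fun a : P.presheaf.stalk y => a • (N.presheaf.germ ⊤ y trivial) s := by
  refine ⟨?_, injective_germ_of_charts (π := g) (n := 1) hN fun x => ?_⟩
  · refine of_charts (Q := MorphismProperty.isomorphisms Scheme.{u}) fun x => ?_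
    obtain ⟨C, hx, hf⟩ := h x
    obtain ⟨q, hq⟩ := C.exists_sq hN z hz hf
    exact ⟨_, _, C.v, inferInstance, q, _, hx, hq, quotMap_X_iso C.R⟩
  · obtain ⟨C, hx, hf⟩ := h x
    exact ⟨C, _, hx, hf, mul_X_injective 0⟩

theorem line_chart_baseChange {g : U ⟶ X} {N : U.Modules} {s : Γ(N, ⊤)}
    (h : ∀ x : X, ∃ C : Chart g 1, x ∈ Set.range C.v ∧ C.EqIn s (MvPolynomial.X 0))
    {j : E ⟶ U} {p : E ⟶ D} (sq : IsPullback j p g i) (d : D) :
    ∃ C : Chart p 1, d ∈ Set.range C.v ∧ C.EqIn (pull j N ⊤ s) (MvPolynomial.X 0) := by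
  obtain ⟨C, hx, hf⟩ := h (i d)
  obtain ⟨C', φ, hd, hj⟩ := exists_chart_baseChange sq C d hx
  refine ⟨C', hd, ?_⟩
  have := hf.map C' (MvPolynomial.map φ) hj
  rwa [MvPolynomial.map_X] at this

end Groth.L16.Deform
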