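import Groth.Agent.L16.Deform.Atlas
import Groth.Agent.L22.Bundle.BaseChange

/-!
# Models for the deformation to a principal divisor
-/

set_option autoImplicit false
set_option linter.style.haveILetI false
set_option backward.isDefEq.respectTransparency false
set_option backward.isDefEq.respectTransparency.types false

universe u

open CategoryTheory CategoryTheory.Limits AlgebraicGeometry TopologicalSpace Opposite
open Groth.L18.Frame (rs ro rs_rs rs_smul rs_self IsFrame pull pull_rs pull_smul)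
open Groth.L19.ProjBdl (one1 isFrame_one1)

noncomputable section

namespace Groth.L16.Deform

variable {X T P PT D DT : Scheme.{u}}

theorem isFrame_iso_app {Y : Scheme.{u}} {M N : Y.Modules} (φ : M ⟶ N) [IsIso φ] {W : Y.Opens} {e : Γ(M, W)}
    (he : IsFrame M W e) : IsFrame N W (φ.app W e) := fun V h => by
  have h1 : (fun a : Γ(Y, V) => a • rs N h (φ.app W e)) = φ.app V ∘ fun a : Γ(Y, V) => a • rs M h e := by
    funext a
    rw [Function.comp_apply, φ.app_smul, Groth.L19.ProjBdl.app_rs]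
  rw [h1]
  exact (ConcreteCategory.bijective_of_isIso (φ.app V)).comp (he V h)

/-- Comparison of pulled back modules along the two sides of a square. -/
def squareMap {A B B' C : Scheme.{u}} {f : A ⟶ B} {g : B ⟶ C} {f' : A ⟶ B'} {g' : B' ⟶ C} (e : f ≫ g = f' ≫ g')
    (M : C.Modules) :
    (Scheme.Modules.pullback f).obj ((Scheme.Modules.pullback g).obj M) ⟶
      (Scheme.Modules.pullback f').obj ((Scheme.Modules.pullback g').obj M) :=
  Groth.L22.Bundle.cH f g M ≫ Groth.L22.Bundle.gH e M ≫ Groth.L22.Bundle.cI f' g' M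

instance {A B B' C : Scheme.{u}} {f : A ⟶ B} {g : B ⟶ C} {f' : A ⟶ B'} {g' : B' ⟶ C} (e : f ≫ g = f' ≫ g')
    (M : C.Modules) : IsIso (squareMap e M) := by
  unfold squareMap; infer_instance

theorem squareMap_pull {A B B' C : Scheme.{u}} {f : A ⟶ B} {g : B ⟶ C} {f' : A ⟶ B'} {g' : B' ⟶ C}
    (e : f ≫ g = f' ≫ g') (M : C.Modules) (m : Γ(M, ⊤)) :
    (squareMap e M).app ⊤ (pull f _ ⊤ (pull g M ⊤ m)) = pull f' _ ⊤ (pull g' M ⊤ m) := by
  show (Groth.L22.Bundle.cI f' g' M).app ⊤ ((Groth.L22.Bundle.gH e M).app ⊤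
    ((Groth.L22.Bundle.cH f g M).app ((f ≫ g) ⁻¹ᵁ ⊤) (pull f _ (g ⁻¹ᵁ ⊤) (pull g M ⊤ m)))) = _
  rw [Groth.L22.Bundle.pull_cH]
  have h := Groth.L22.Bundle.pull_gH e M ⊤ m rfl
  rw [rs_self] at h
  erw [h]
  exact Groth.L22.Bundle.pull_cI f' g' M ⊤ m

/-- A model: a plane bundle over `X` with a function `t` and sections `l`, `m` of an invertible module,
in charts `X 0`, `X 1` and a constant, the zero scheme of `m` being the preimage of `D`. -/
structure IsModel (π : P ⟶ X) (i : D ⟶ X) (M : P.Modules) (t : Γ(P, ⊤)) (l m : Γ(M, ⊤)) : Prop where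
  inv : PicF.IsInvertible M
  charts : ∀ x : X, ∃ (C : Chart π 2) (c : C.R) (e : Γ((Scheme.Modules.pullback C.j).obj M, ⊤)),
    x ∈ Set.range C.v ∧ IsFrame ((Scheme.Modules.pullback C.j).obj M) ⊤ e ∧
      C.j.appTop t = (Scheme.ΓSpecIso (CommRingCat.of (MvPolynomial (Fin 2) C.R))).inv (MvPolynomial.X 0) ∧
      pull C.j M ⊤ l = (Scheme.ΓSpecIso (CommRingCat.of (MvPolynomial (Fin 2) C.R))).inv (MvPolynomial.X 1) • e ∧
      pull C.j M ⊤ m = (Scheme.ΓSpecIso (CommRingCat.of (MvPolynomial (Fin 2) C.R))).inv (MvPolynomial.C c) • e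
  zero_m : Cyc.IsZeroSchemeOf (pullback.fst π i) M m

theorem appTop_spec_map {A B : CommRingCat.{u}} (φ : A ⟶ B) (a : A) :
    (Spec.map φ).appTop ((Scheme.ΓSpecIso A).inv a) = (Scheme.ΓSpecIso B).inv (φ a) :=
  (congr($(Scheme.ΓSpecIso_inv_naturality φ) a)).symm

theorem exists_model_chart_baseChange {π : P ⟶ X} {h : T ⟶ X} {prP : PT ⟶ P} {πT : PT ⟶ T}
    (sq : IsPullback prP πT π h) (C : Chart π 2) (x : T) (hx : h x ∈ Set.range C.v) :
    ∃ (C' : Chart πT 2) (φ : C.R →+* C'.R), x ∈ Set.range C'.v ∧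
      C'.j ≫ prP = Spec.map (CommRingCat.ofHom (MvPolynomial.map φ)) ≫ C.j := by
  obtain ⟨W, hW, hxW, hWle⟩ := exists_isAffineOpen_mem_and_subset (x := x) (U := h ⁻¹ᵁ C.v.opensRange) hx
  have hr : Set.range (hW.fromSpec ≫ h) ⊆ Set.range C.v := by
    rintro _ ⟨y, rfl⟩
    exact hWle (hW.range_fromSpec.le ⟨y, rfl⟩)
  let φ : C.R ⟶ Γ(T, W) := Spec.preimage (IsOpenImmersion.lift C.v (hW.fromSpec ≫ h) hr)
  have hφ : Spec.map φ ≫ C.v = hW.fromSpec ≫ h := by
    rw [Spec.map_preimage, IsOpenImmersion.lift_fac]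
  letI : Algebra C.R Γ(T, W) := φ.hom.toAlgebra
  letI : Algebra (MvPolynomial (Fin 2) C.R) (MvPolynomial (Fin 2) Γ(T, W)) := MvPolynomial.algebraMvPolynomial
  have po := CommRingCat.isPushout_of_isPushout C.R Γ(T, W) (MvPolynomial (Fin 2) C.R)
    (MvPolynomial (Fin 2) Γ(T, W))
  have pb : IsPullback (Spec.map (CommRingCat.ofHom (MvPolynomial.map φ.hom))) (affMap Γ(T, W) 2)
      (affMap C.R 2) (Spec.map φ) := by
    have h1 := (isPullback_SpecMap_of_isPushout _ _ _ _ po).flip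
    exact h1
  have outer := pb.paste_horiz C.sq
  rw [hφ] at outer
  let j' : Spec (CommRingCat.of (MvPolynomial (Fin 2) Γ(T, W))) ⟶ PT :=
    sq.lift (Spec.map (CommRingCat.ofHom (MvPolynomial.map φ.hom)) ≫ C.j) (affMap Γ(T, W) 2 ≫ hW.fromSpec)
      (by rw [outer.w, Category.assoc])
  have h1 : j' ≫ prP = Spec.map (CommRingCat.ofHom (MvPolynomial.map φ.hom)) ≫ C.j := sq.lift_fst _ _ _
  have h2 : j' ≫ πT = affMap Γ(T, W) 2 ≫ hW.fromSpec := sq.lift_snd _ _ _
  refine ⟨⟨Γ(T, W), hW.fromSpec, j', IsPullback.of_right ?_ h2 sq⟩, φ.hom, hW.range_fromSpec.ge hxW, h1⟩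
  rw [h1]
  exact outer

/-- Models pull back. -/
theorem IsModel.baseChange {π : P ⟶ X} {i : D ⟶ X} {M : P.Modules} {t : Γ(P, ⊤)} {l m : Γ(M, ⊤)}
    (H : IsModel π i M t l m) {h : T ⟶ X} {prP : PT ⟶ P} {πT : PT ⟶ T} {prD : DT ⟶ D} {iT : DT ⟶ T}
    [IsClosedImmersion i] [IsClosedImmersion iT] (sq : IsPullback prP πT π h) (sqD : IsPullback prD iT i h) :
    IsModel πT iT ((Scheme.Modules.pullback prP).obj M) (prP.appTop t) (pull prP M ⊤ l) (pull prP M ⊤ m) where
  inv := Groth.L18.Ample.isInvertible_pullback prP H.inv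
  charts x := by
    obtain ⟨C, c, e, hx, he, ht, hl, hm⟩ := H.charts (h x)
    obtain ⟨C', φ, hx', hj⟩ := exists_model_chart_baseChange sq C x hx
    let mm := Spec.map (CommRingCat.ofHom (MvPolynomial.map (σ := Fin 2) φ))
    let Θ := squareMap (f := mm) (g := C.j) (f' := C'.j) (g' := prP) hj.symm M
    refine ⟨C', φ c, Θ.app ⊤ (pull mm _ ⊤ e), hx', isFrame_iso_app Θ (he.pullback mm _), ?_, ?_, ?_⟩
    · show C'.j.appTop (prP.appTop t) = _
      rw [← CommRingCat.comp_apply, ← Scheme.Hom.comp_appTop, hj, Scheme.Hom.comp_appTop, CommRingCat.comp_apply,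
        ht, appTop_spec_map]
      exact congrArg _ (MvPolynomial.map_X φ 0)
    · rw [← squareMap_pull hj.symm M l, hl, pull_smul, Scheme.Modules.Hom.app_smul]
      congr 1
      refine (appTop_spec_map _ _).trans (congrArg _ ?_)
      exact MvPolynomial.map_X φ 1
    · rw [← squareMap_pull hj.symm M m, hm, pull_smul, Scheme.Modules.Hom.app_smul]
      congr 1
      refine (appTop_spec_map _ _).trans (congrArg _ ?_)
      exact MvPolynomial.map_C φ c
  zero_m := by
    have h0 := Groth.L22.C1.isZeroScheme_base prP (pullback.fst π i) H.inv m H.zero_m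
    let d : pullback πT iT ⟶ pullback π i :=
      pullback.map πT iT π i prP prD h sq.w.symm sqD.w.symm
    have hd1 : d ≫ pullback.fst π i = pullback.fst πT iT ≫ prP := pullback.lift_fst _ _ _
    have hd2 : d ≫ pullback.snd π i = pullback.snd πT iT ≫ prD := pullback.lift_snd _ _ _
    have sqd : IsPullback (pullback.fst πT iT) d prP (pullback.fst π i) := by
      refine IsPullback.of_bot ?_ hd1.symm (IsPullback.of_hasPullback π i)
      rw [hd2, sq.w]
      exact (IsPullback.of_hasPullback πT iT).paste_vert sqD.flip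
    exact Groth.L22.P1Zero.isZeroSchemeOf_iso (pullback.fst πT iT) (pullback.fst prP (pullback.fst π i))
      sqd.isoPullback.hom sqd.isoPullback_hom_fst h0

end Groth.L16.Deform
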