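import Groth.Agent.L22.ZeroScheme
import Groth.Agent.L22.Cyc.P1Zero
import Groth.Agent.L22.C1.GysinBC

/-!
# Zero schemes of sections: existence, uniqueness, local equations
-/

set_option autoImplicit false
set_option linter.style.haveILetI false
set_option backward.isDefEq.respectTransparency false
set_option backward.isDefEq.respectTransparency.types false

universe u

open CategoryTheory CategoryTheory.Limits AlgebraicGeometry TopologicalSpace Opposite
open Groth.L18.Frame (rs ro rs_rs rs_smul rs_self ro_ro IsFrame pull pull_rs pull_smul)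

noncomputable section

namespace Groth.L16.Deform

variable {X D D' : Scheme.{u}} {L : X.Modules}

theorem sI_ker_le (hL : PicF.IsInvertible L) {σ : Γ(L, ⊤)} (i : D ⟶ X) [IsClosedImmersion i]
    (j : D' ⟶ X) [IsClosedImmersion j] (hi : Cyc.IsZeroSchemeOf i L σ) (hj : Cyc.IsZeroSchemeOf j L σ) (x : X) :
    Groth.L20.SeeNormal.sI i.ker x ≤ Groth.L20.SeeNormal.sI j.ker x := by
  by_cases hx : x ∈ Set.range j
  · obtain ⟨d', rfl⟩ := hx
    obtain ⟨d, hd⟩ : j d' ∈ Set.range i := hi.1.symm.le (hj.1.le ⟨d', rfl⟩)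
    obtain ⟨t', f', ht', hf', hk'⟩ := hj.2 d'
    have key : ∀ (x : X), x = j d' → ∀ (t : L.presheaf.stalk x) (f : X.presheaf.stalk x), Groth.L22.C1.IsGen L t →
        L.presheaf.germ ⊤ x trivial σ = f • t → Groth.L20.SeeNormal.sI i.ker x = Ideal.span {f} →
        Groth.L20.SeeNormal.sI i.ker (j d') ≤ Groth.L20.SeeNormal.sI j.ker (j d') := by
      rintro _ rfl t f ht hf hk
      obtain ⟨c, hc, rfl⟩ := Groth.L22.C1.IsGen.exists_unit hL ht ht'
      rw [hk, ← Groth.L20.Infinitesimal.ker_stalkMap, hk', Ideal.span_singleton_le_span_singleton]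
      refine ⟨c, ?_⟩
      refine ht.injective hL ?_
      show f • t = (f' * c) • t
      rw [mul_smul, ← hf', ← hf]
    obtain ⟨t, f, ht, hf, hk⟩ := hi.2 d
    rw [Groth.L20.Infinitesimal.ker_stalkMap] at hk
    exact key _ hd t f ht hf hk
  · obtain ⟨W, hW, hxW, -⟩ := exists_isAffineOpen_mem_and_subset (x := x) (U := ⊤) trivial
    rw [Groth.L20.SeeNormal.sI_eq j.ker ⟨W, hW⟩ hxW]
    refine le_top.trans (top_le_iff.2 ?_)
    have h1 : x ∉ X.zeroLocus (U := W) ((j.ker.ideal ⟨W, hW⟩ : Ideal Γ(X, W)) : Set Γ(X, W)) := fun h => hx (by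
      have := ((Set.ext_iff.1 (j.ker.coe_support_inter ⟨W, hW⟩) x).2 ⟨h, hxW⟩).1
      rwa [Scheme.Hom.support_ker, j.isClosedEmbedding.isClosed_range.closure_eq] at this)
    rw [Scheme.mem_zeroLocus_iff] at h1
    push Not at h1
    obtain ⟨a, ha, hxa⟩ := h1
    exact Ideal.eq_top_of_isUnit_mem _ (Ideal.mem_map_of_mem _ ha) ((Scheme.mem_basicOpen _ _ _ hxW).1 hxa)

/-- Two zero schemes of one section are isomorphic. -/
theorem exists_iso_of_isZeroScheme (hL : PicF.IsInvertible L) {σ : Γ(L, ⊤)} (i : D ⟶ X) [IsClosedImmersion i]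
    (j : D' ⟶ X) [IsClosedImmersion j] (hi : Cyc.IsZeroSchemeOf i L σ) (hj : Cyc.IsZeroSchemeOf j L σ) :
    ∃ e : D ≅ D', e.hom ≫ j = i := by
  have h : i.ker = j.ker := Groth.L20.SeeNormal.ext_sI fun x =>
    le_antisymm (sI_ker_le hL i j hi hj x) (sI_ker_le hL j i hj hi x)
  refine ⟨⟨IsClosedImmersion.lift j i h.ge, IsClosedImmersion.lift i j h.le, ?_, ?_⟩, IsClosedImmersion.lift_fac _ _ _⟩
  · rw [← cancel_mono i, Category.assoc, IsClosedImmersion.lift_fac, IsClosedImmersion.lift_fac, Category.id_comp]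
  · rw [← cancel_mono j, Category.assoc, IsClosedImmersion.lift_fac, IsClosedImmersion.lift_fac, Category.id_comp]

/-- Every section of an invertible module has a zero scheme. -/
theorem exists_zeroScheme (hL : PicF.IsInvertible L) (σ : Γ(L, ⊤)) :
    ∃ (Z : Scheme.{u}) (ι : Z ⟶ X) (_ : IsClosedImmersion ι), Cyc.IsZeroSchemeOf ι L σ := by
  let s := Groth.L16.homOfSection L σ
  refine ⟨_, (PicF2.zeroScheme L s).subschemeι, inferInstance,
    Groth.L22.P1Zero.isZeroSchemeOf_of_cover _ hL σ fun x => ?_⟩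
  obtain ⟨W₀, e₀, hx₀, he₀⟩ := Groth.L18.Frame.exists_frame hL x
  obtain ⟨W, hW, hxW, hWW₀⟩ := exists_isAffineOpen_mem_and_subset (x := x) (U := W₀) hx₀
  have he : IsFrame L W (rs L hWW₀ e₀) := he₀.mono hWW₀
  obtain ⟨f, hf⟩ := he.exists_coeff le_rfl (rs L le_top σ)
  rw [rs_self] at hf
  refine ⟨W, _, f, hW, hxW, he, hf.symm, ?_⟩
  rw [← Scheme.Hom.ker_apply (f := (PicF2.zeroScheme L s).subschemeι) ⟨W, hW⟩, Scheme.IdealSheafData.ker_subschemeι,
    Groth.L22.ZeroScheme.zeroScheme_ideal hL]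
  ext a
  rw [Groth.L22.ZeroScheme.mem_idealOn_iff, Groth.L18.GenLoc.secOf_homOfSection, Ideal.mem_span_singleton]
  constructor
  · intro h
    obtain ⟨b, hb⟩ := h (rs L hWW₀ e₀)
    refine ⟨b, he.inj le_rfl ?_⟩
    show a • rs L _ (rs L hWW₀ e₀) = (f * b) • rs L _ (rs L hWW₀ e₀)
    rw [rs_self, hb, ← hf, smul_smul, mul_comm]
  · rintro ⟨b, rfl⟩ m
    obtain ⟨d, hd⟩ := he.exists_coeff le_rfl m
    rw [rs_self] at hd
    refine ⟨b * d, ?_⟩
    rw [← hd, ← hf, smul_smul, smul_smul]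
    congr 1
    ring

section Local

variable {R : CommRingCat.{u}} {M : (Spec R).Modules}

/-- The zero scheme of `f • e` on an affine scheme. -/
theorem isZeroScheme_quot (hM : PicF.IsInvertible M) {e : Γ(M, ⊤)} (he : IsFrame M ⊤ e) (σ : Γ(M, ⊤)) (f : R)
    (hσ : σ = (Scheme.ΓSpecIso R).inv f • e) :
    Cyc.IsZeroSchemeOf (Spec.map (CommRingCat.ofHom (Ideal.Quotient.mk (Ideal.span {f})))) M σ := by
  haveI : IsClosedImmersion (Spec.map (CommRingCat.ofHom (Ideal.Quotient.mk (Ideal.span {f})))) :=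
    IsClosedImmersion.spec_of_surjective _ Ideal.Quotient.mk_surjective
  refine Groth.L22.P1Zero.isZeroSchemeOf_of_cover _ hM σ fun x => ?_
  refine ⟨⊤, e, (Scheme.ΓSpecIso R).inv f, isAffineOpen_top _, trivial, he, (rs_self _ _ _).trans hσ, ?_⟩
  have h1 := Scheme.ΓSpecIso_inv_naturality (CommRingCat.ofHom (Ideal.Quotient.mk (Ideal.span {f})))
  ext a
  obtain ⟨a, rfl⟩ := (ConcreteCategory.bijective_of_isIso (Scheme.ΓSpecIso R).inv).2 a
  rw [RingHom.mem_ker]
  have h2 : (Spec.map (CommRingCat.ofHom (Ideal.Quotient.mk (Ideal.span {f})))).app ⊤ ((Scheme.ΓSpecIso R).inv a) =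
      (Scheme.ΓSpecIso _).inv (Ideal.Quotient.mk (Ideal.span {f}) a) := (congr($h1 a)).symm
  erw [h2, map_eq_zero_iff _ (ConcreteCategory.bijective_of_isIso (Scheme.ΓSpecIso _).inv).1]
  rw [Ideal.Quotient.eq_zero_iff_mem, Ideal.mem_span_singleton, Ideal.mem_span_singleton]
  exact ⟨map_dvd (Scheme.ΓSpecIso R).inv.hom, fun h => by
    obtain ⟨b, hb⟩ := h
    obtain ⟨b, rfl⟩ := (ConcreteCategory.bijective_of_isIso (Scheme.ΓSpecIso R).inv).2 b
    exact ⟨b, (ConcreteCategory.bijective_of_isIso (Scheme.ΓSpecIso R).inv).1 (by rw [hb, map_mul])⟩⟩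

/-- The local equation of a zero scheme in a chart. -/
theorem exists_chart_zeroScheme {Z : Scheme.{u}} (ι : Z ⟶ X) [IsClosedImmersion ι] (hL : PicF.IsInvertible L)
    {σ : Γ(L, ⊤)} (hι : Cyc.IsZeroSchemeOf ι L σ) (j : Spec R ⟶ X)
    {e : Γ((Scheme.Modules.pullback j).obj L, ⊤)} (he : IsFrame ((Scheme.Modules.pullback j).obj L) ⊤ e) (f : R)
    (hσ : pull j L ⊤ σ = (Scheme.ΓSpecIso R).inv f • e) :
    ∃ q : Spec (CommRingCat.of (R ⧸ Ideal.span {f})) ⟶ Z,
      IsPullback (Spec.map (CommRingCat.ofHom (Ideal.Quotient.mk (Ideal.span {f})))) q j ι := by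
  haveI : IsClosedImmersion (Spec.map (CommRingCat.ofHom (Ideal.Quotient.mk (Ideal.span {f})))) :=
    IsClosedImmersion.spec_of_surjective _ Ideal.Quotient.mk_surjective
  have hN := Groth.L18.Ample.isInvertible_pullback j hL
  obtain ⟨φ, hφ⟩ := exists_iso_of_isZeroScheme hN _ _ (isZeroScheme_quot hN he _ f hσ)
    (Groth.L22.C1.isZeroScheme_base j ι hL σ hι)
  exact ⟨φ.hom ≫ pullback.snd j ι, (IsPullback.of_hasPullback j ι).of_iso φ.symm (Iso.refl _) (Iso.refl _)
    (Iso.refl _) (by simp [← hφ]) (by simp) (by simp) (by simp)⟩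

end Local

end Groth.L16.Deform
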